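import Cfsg.Agent.R2.T1.N7.Grp_m3
import Cfsg.Agent.S1054
import Cfsg.Agent.R2.PX.W.Cl_m3
import Cfsg.Agent.R2.PX.Conf_m3
import Cfsg.Agent.R2.T1.Five.CaseII_m3
import Cfsg.Agent.H954.CWarn
import Cfsg.Agent.Lib.ListFast
import Cfsg.Agent.H952.F4.Scott_m3
import Cfsg.Agent.FastGrp
import Cfsg.Agent.Prune
set_option linter.all false

section
prune_inst 0x7f00000000000000000000000000000000000000000000000000000000000000000000000000000000000000000000000000000000000000000000000000000000000000000000000000000000000000003fffffffffffffffffffffffffffbeffbdffffffff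

section
prune_inst 0xffeff8bbbef9dfffff7e7faf9edffcfbb3bfffe6dff943ffe0efff0b9fdb94cbe5fbad0bea70fe1ed7e81410f87b53ff7eefffeb6bd87ffffd1ff41ffbffcffdf7b50931dd8cbe1f7c4fff93f0778e7f000000000000000000000000000000000200000000

-- part: R2/T1/N7/Dims
section
set_option linter.all false
open scoped Cfsg.Agent.FastGrp

/-!
# S5929, `n = 7`: dimension formulas for the modules of `A_7`, `p ≠ 2, 3` or `p ∤ |T|` (helper27)
-/

set_option autoImplicit false
set_option maxRecDepth 100000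

namespace Cfsg.Agent.R2.T1.N7

open Module
open Cfsg.Agent.R2.T1.Odd
open Cfsg.Agent.R2.T1.Art
open Cfsg.Agent.H952.F4 (ev)

universe u v

/-- elements of order 5 -/
def l5 : List (ℕ × ℕ) := [(0, 1), (1, 2), (2, 3), (3, 4)]

theorem r7_eq : r7 = [[], lt, l42, l3, l33, l5] := by decide

section
variable {F : Type u} [Field F] [Finite F] {W : Type v} [AddCommGroup W] [Module F W] [FiniteDimensional F W]
  (ρ : Representation F A7 W)

omit [Finite F] in
theorem prod_ne {a b c : ℕ} (h2 : (2 : F) ≠ 0) (h3 : b = 0 ∨ (3 : F) ≠ 0) (h5 : c = 0 ∨ (5 : F) ≠ 0) :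
    ((2 ^ a * 3 ^ b * 5 ^ c : ℕ) : F) ≠ 0 := by
  rw [Nat.cast_mul, Nat.cast_mul, Nat.cast_pow, Nat.cast_pow, Nat.cast_pow]
  refine mul_ne_zero (mul_ne_zero (pow_ne_zero a (by exact_mod_cast h2)) ?_) ?_
  · rcases h3 with h | h
    · rw [h, pow_zero]; exact one_ne_zero
    · exact pow_ne_zero b (by exact_mod_cast h)
  · rcases h5 with h | h
    · rw [h, pow_zero]; exact one_ne_zero
    · exact pow_ne_zero c (by exact_mod_cast h)

theorem dimA4 (h2 : (2 : F) ≠ 0) (h3 : (3 : F) ≠ 0) : 12 * (finrank F ↥(inv ρ (Tg 7 gA4)) : ℚ) =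
    om ρ 1 + 3 * om ρ (P 7 lt) + 8 * om ρ (P 7 l3) := by
  have h := dimC (n := 7) le_rfl chkG_A4 chkC_A4 len_A4 (K := 6) rfl
    (by simpa using prod_ne (F := F) (a := 2) (b := 1) (c := 0) h2 (Or.inr h3) (Or.inl rfl)) cnt_A4 ρ
  simp only [r7_eq, Finset.sum_range_succ, Finset.sum_range_zero, List.getD_cons_zero, List.getD_cons_succ, P_nil] at h
  push_cast at h
  linear_combination h

theorem dimA5 (h2 : (2 : F) ≠ 0) (h3 : (3 : F) ≠ 0) (h5 : (5 : F) ≠ 0) : 60 * (finrank F ↥(inv ρ (Tg 7 gA5)) : ℚ) =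
    om ρ 1 + 15 * om ρ (P 7 lt) + 20 * om ρ (P 7 l3) + 24 * om ρ (P 7 l5) := by
  have h := dimC (n := 7) le_rfl chkG_A5 chkC_A5 len_A5 (K := 6) rfl
    (by simpa using prod_ne (F := F) (a := 2) (b := 1) (c := 1) h2 (Or.inr h3) (Or.inr h5)) cnt_A5 ρ
  simp only [r7_eq, Finset.sum_range_succ, Finset.sum_range_zero, List.getD_cons_zero, List.getD_cons_succ, P_nil] at h
  push_cast at h
  linear_combination h

theorem dimB5 (h2 : (2 : F) ≠ 0) (h3 : (3 : F) ≠ 0) (h5 : (5 : F) ≠ 0) : 60 * (finrank F ↥(inv ρ (Tg 7 gB5)) : ℚ) =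
    om ρ 1 + 15 * om ρ (P 7 lt) + 20 * om ρ (P 7 l33) + 24 * om ρ (P 7 l5) := by
  have h := dimC (n := 7) le_rfl chkG_B5 chkC_B5 len_B5 (K := 6) rfl
    (by simpa using prod_ne (F := F) (a := 2) (b := 1) (c := 1) h2 (Or.inr h3) (Or.inr h5)) cnt_B5 ρ
  simp only [r7_eq, Finset.sum_range_succ, Finset.sum_range_zero, List.getD_cons_zero, List.getD_cons_succ, P_nil] at h
  push_cast at h
  linear_combination h

theorem dimE4 (h2 : (2 : F) ≠ 0) (h3 : (3 : F) ≠ 0) : 36 * (finrank F ↥(inv ρ (Tg 7 gE4)) : ℚ) =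
    om ρ 1 + 9 * om ρ (P 7 lt) + 18 * om ρ (P 7 l42) + 4 * om ρ (P 7 l3) + 4 * om ρ (P 7 l33) := by
  have h := dimC (n := 7) le_rfl chkG_E4 chkC_E4 len_E4 (K := 6) rfl
    (by simpa using prod_ne (F := F) (a := 2) (b := 2) (c := 0) h2 (Or.inr h3) (Or.inl rfl)) cnt_E4 ρ
  simp only [r7_eq, Finset.sum_range_succ, Finset.sum_range_zero, List.getD_cons_zero, List.getD_cons_succ, P_nil] at h
  push_cast at h
  linear_combination h

theorem dimA6 (h2 : (2 : F) ≠ 0) (h3 : (3 : F) ≠ 0) (h5 : (5 : F) ≠ 0) : 360 * (finrank F ↥(inv ρ (Tg 7 gA6)) : ℚ) =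
    om ρ 1 + 45 * om ρ (P 7 lt) + 90 * om ρ (P 7 l42) + 40 * om ρ (P 7 l3) + 40 * om ρ (P 7 l33) +
      144 * om ρ (P 7 l5) := by
  have h := dimC (n := 7) le_rfl chkG_A6 chkC_A6 len_A6 (K := 6) rfl
    (by simpa using prod_ne (F := F) (a := 3) (b := 2) (c := 1) h2 (Or.inr h3) (Or.inr h5)) cnt_A6 ρ
  simp only [r7_eq, Finset.sum_range_succ, Finset.sum_range_zero, List.getD_cons_zero, List.getD_cons_succ, P_nil] at h
  push_cast at h
  linear_combination h

omit [Finite F] [FiniteDimensional F W] in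
theorem om_t : om ρ (P 7 lt) = 2 * (ev (ρ (P 7 lt)) 1 : ℚ) - finrank F W := by
  rw [om_prime ρ Nat.prime_two (orderOf_P (m := 7) le_rfl (by decide +kernel))]
  norm_num

omit [Finite F] [FiniteDimensional F W] in
theorem om_3 : om ρ (P 7 l3) = (3 * (ev (ρ (P 7 l3)) 1 : ℚ) - finrank F W) / 2 := by
  rw [om_prime ρ Nat.prime_three (orderOf_P (m := 7) le_rfl (by decide +kernel))]
  norm_num

omit [Finite F] [FiniteDimensional F W] in
theorem om_33 : om ρ (P 7 l33) = (3 * (ev (ρ (P 7 l33)) 1 : ℚ) - finrank F W) / 2 := by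
  rw [om_prime ρ Nat.prime_three (orderOf_P (m := 7) le_rfl (by decide +kernel))]
  norm_num

omit [Finite F] [FiniteDimensional F W] in
theorem om_5 : om ρ (P 7 l5) = (5 * (ev (ρ (P 7 l5)) 1 : ℚ) - finrank F W) / 4 := by
  rw [om_prime ρ Nat.prime_five (orderOf_P (m := 7) le_rfl (by decide +kernel))]
  norm_num

omit [Finite F] [FiniteDimensional F W] in
theorem om_42 : om ρ (P 7 l42) = 2 * (ev (ρ (P 7 l42)) 1 : ℚ) - (ev (ρ (P 7 lt)) 1 : ℚ) := by
  have h : P 7 l42 ^ 2 = P 7 [(1, 2), (4, 5)] * P 7 lt * (P 7 [(1, 2), (4, 5)])⁻¹ := by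
    rw [← mul_inv_eq_iff_eq_mul, inv_inv, ← P_pwl (n := 7) (m := 7) le_rfl (by decide),
      ← P_append (m := 7) le_rfl (by decide) (by decide), ← P_append (m := 7) le_rfl (by decide) (by decide),
      P_eq_iff (m := 7) le_rfl (by decide) (by decide)]
    decide
  rw [om_four ρ (orderOf_P (m := 7) le_rfl (by decide +kernel)), h, Cfsg.Agent.H944.E6T.ev_conj]

end

end Cfsg.Agent.R2.T1.N7
end

-- part: R2/T1/N7/Big
section
prune_inst 0x1007404006200000000050612003044c4000092006b8000c1000b460200a14000002f4118301012802eae800000000000000000404000000e000000000000208002440003000c08300000000080000000000000000000000000000000000004000000000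
set_option linter.all false
open scoped Cfsg.Agent.FastGrp

/-!
# S5929, `n = 7`, lift, `p ≥ 7` (helper27)
-/

set_option autoImplicit false
set_option maxRecDepth 100000

namespace Cfsg.Agent.R2.T1.N7

open Equiv Equiv.Perm Module Cfsg Cfsg.Lie
open Cfsg.Agent.H943.E7V.Block (D1)
open Cfsg.Agent.R2.T1.Odd
open Cfsg.Agent.R2.T1.Art
open Cfsg.Agent.H952.F4 (ev MaxAlt)

universe u

theorem l3_cyc : ((P 7 l3 : A7) : Perm (Fin 7)).IsThreeCycle := by
  rw [coe_P (n := 7) (m := 7) le_rfl (by decide)]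
  have h1 : pm 7 l3 = swap (Fin.ofNat 7 1) (Fin.ofNat 7 0) * swap (Fin.ofNat 7 1) (Fin.ofNat 7 2) := by
    unfold l3
    rw [pm_cons, pm_cons, pm_nil, mul_one, swap_comm (Fin.ofNat 7 0)]
  rw [h1]
  exact isThreeCycle_swap_mul_swap_same (by decide) (by decide) (by decide)

section
variable {F : Type u} [Field F] {ψ : A7 →* Gh F}

theorem psi_ne7 (hψ : ∀ a, ad F (ψ a) = 1 → a = 1) {l : List (ℕ × ℕ)} (h : vl 7 l = true) (hc : cd 7 l ≠ cd 7 []) :
    ad F (ψ (P 7 l)) ≠ 1 := by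
  intro h1
  exact P_ne (n := 7) (m := 7) le_rfl h rfl hc (by rw [hψ _ h1, P_nil])

theorem psi_ne7' (hψ : ∀ a, ad F (ψ a) = 1 → a = 1) {l : List (ℕ × ℕ)} (h : vl 7 l = true) (hc : cd 7 l ≠ cd 7 []) :
    ψ (P 7 l) ≠ 1 := fun h1 => psi_ne7 hψ h hc (by rw [h1, map_one])

variable [Finite F] (h2 : (2 : F) ≠ 0) (h3 : (3 : F) ≠ 0) (h5 : (5 : F) ≠ 0) (hψ : ∀ a, ad F (ψ a) = 1 → a = 1)

include h2 hψ in
theorem case_t : ev (V F (ψ (P 7 lt))) 1 = 32 ∨ ev (V F (ψ (P 7 lt))) 1 = 24 :=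
  (two h2 (by rw [← map_mul, ← pow_two, P_pow_one (n := 7) (m := 7) le_rfl (by decide) (by decide), map_one])
    (psi_ne7 hψ (by decide) (by decide))).1

include h3 hψ in
theorem case_3 {l : List (ℕ × ℕ)} (h : vl 7 l = true) (hc : cd 7 l ≠ cd 7 []) (hp : cd 7 (pwl l 3) = cd 7 []) :
    ev (V F (ψ (P 7 l))) 1 = 2 ∨ ev (V F (ψ (P 7 l))) 1 = 32 ∨ ev (V F (ψ (P 7 l))) 1 = 20 ∨
      ev (V F (ψ (P 7 l))) 1 = 14 := by
  have h1 := three h3 (x := ψ (P 7 l)) (by rw [← map_pow, P_pow_one (n := 7) (m := 7) le_rfl h hp, map_one])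
    (psi_ne7' hψ h hc)
  omega

include h5 hψ in
theorem case_5 : ev (V F (ψ (P 7 l5))) 1 = 16 := by
  have h1 : P 7 l5 ^ 5 = 1 := P_pow_one (n := 7) (m := 7) le_rfl (by decide) (by decide)
  have h3 : P 7 [(1, 2), (2, 4), (4, 3), (5, 6)] * P 7 l5 * (P 7 [(1, 2), (2, 4), (4, 3), (5, 6)])⁻¹ = P 7 l5 ^ 2 := by
    rw [mul_inv_eq_iff_eq_mul, ← P_pwl (n := 7) (m := 7) le_rfl (by decide),
      ← P_append (n := 7) (m := 7) le_rfl (by decide) (by decide),
      ← P_append (n := 7) (m := 7) le_rfl (by decide) (by decide), P_eq_iff (n := 7) (m := 7) le_rfl (by decide) (by decide)]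
    decide
  refine five_rat h5 (x := ψ (P 7 l5)) (g := ψ (P 7 [(1, 2), (2, 4), (4, 3), (5, 6)])) ?_
    (psi_ne7' hψ (by decide) (by decide)) ?_
  · rw [← map_pow, h1, map_one]
  · rw [← map_inv, ← map_mul, ← map_mul, h3, map_pow]

include h2 h3 h5 hψ in
/-- **the 3-cycles have 32 eigenvalues 1** -/
theorem d3_eq (h0 : Representation.invariants (MonoidHom.comp (V F) ψ) = ⊥) : ev (V F (ψ (P 7 l3))) 1 = 32 := by
  set ρ : Representation F A7 (D1 → F) := MonoidHom.comp (V F) ψ with hρ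
  have e0 : om ρ 1 = 56 := by rw [om_one, finrank_V]; norm_num
  have hW : (finrank F (D1 → F) : ℚ) = 56 := by rw [finrank_V]; norm_num
  have et := om_t ρ
  have e3 := om_3 ρ
  have e33 := om_33 ρ
  have e5 := om_5 ρ
  have e42 := om_42 ρ
  have f5 : ev (ρ (P 7 l5)) 1 = 16 := case_5 h5 hψ
  rw [hW] at et e3 e33 e5
  rw [f5] at e5
  have h4 : 4 ∣ ev (ρ (P 7 l42)) 1 := four_dvd h2 (x := ψ (P 7 l42))
    (by rw [← map_pow, P_pow_one (n := 7) (m := 7) le_rfl (by decide) (by decide), map_one])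
  have ht : ev (ρ (P 7 lt)) 1 = 32 ∨ ev (ρ (P 7 lt)) 1 = 24 := case_t h2 hψ
  have h33 := case_3 (ψ := ψ) h3 hψ (l := l33) (by decide) (by decide) (by decide)
  have h3' := case_3 (ψ := ψ) h3 hψ (l := l3) (by decide) (by decide) (by decide)
  have dA4 := dimA4 ρ h2 h3
  have dB5 := dimB5 ρ h2 h3 h5
  have dE4 := dimE4 ρ h2 h3
  have dA6 := dimA6 ρ h2 h3 h5
  rw [e0, et, e3] at dA4
  rw [e0, et, e33, e5] at dB5
  rw [e0, et, e42, e3, e33] at dE4
  rw [e0, et, e42, e3, e33, e5] at dA6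
  have m1 : finrank F ↥(inv ρ (Tg 7 gA6)) ≤ finrank F ↥(inv ρ (Tg 7 gE4)) :=
    Submodule.finrank_mono (inv_mono (le_A6 (by decide)))
  have m2 := three_u h0
  change ev (ρ (P 7 l3)) 1 = 32
  change ev (ρ (P 7 l33)) 1 = 2 ∨ ev (ρ (P 7 l33)) 1 = 32 ∨ ev (ρ (P 7 l33)) 1 = 20 ∨ ev (ρ (P 7 l33)) 1 = 14 at h33
  change ev (ρ (P 7 l3)) 1 = 2 ∨ ev (ρ (P 7 l3)) 1 = 32 ∨ ev (ρ (P 7 l3)) 1 = 20 ∨ ev (ρ (P 7 l3)) 1 = 14 at h3'
  generalize ev (ρ (P 7 l3)) 1 = x3 at *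
  generalize ev (ρ (P 7 l33)) 1 = x33 at *
  generalize ev (ρ (P 7 lt)) 1 = xt at *
  generalize ev (ρ (P 7 l42)) 1 = x4 at *
  generalize finrank F ↥(inv ρ (Tg 7 gA4)) = a4 at *
  generalize finrank F ↥(inv ρ (Tg 7 gB5)) = b5 at *
  generalize finrank F ↥(inv ρ (Tg 7 gE4)) = s4 at *
  generalize finrank F ↥(inv ρ (Tg 7 gA6)) = a6 at *
  obtain ⟨y, rfl⟩ := h4
  have d1 : (12 * a4 : ℤ) = 56 + 3 * (2 * xt - 56) + 4 * (3 * x3 - 56) := by
    have : (12 * a4 : ℚ) = 56 + 3 * (2 * xt - 56) + 4 * (3 * x3 - 56) := by linarith only [dA4]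
    exact_mod_cast this
  have d2 : (60 * b5 : ℤ) = 56 + 15 * (2 * xt - 56) + 10 * (3 * x33 - 56) + 144 := by
    have : (60 * b5 : ℚ) = 56 + 15 * (2 * xt - 56) + 10 * (3 * x33 - 56) + 144 := by push_cast at dB5 ⊢; linarith only [dB5]
    exact_mod_cast this
  have d3 : (36 * s4 : ℤ) = 56 + 9 * (2 * xt - 56) + 18 * (8 * y - xt) + 2 * (3 * x3 - 56) + 2 * (3 * x33 - 56) := by
    have : (36 * s4 : ℚ) = 56 + 9 * (2 * xt - 56) + 18 * (8 * y - xt) + 2 * (3 * x3 - 56) + 2 * (3 * x33 - 56) := by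
      push_cast at dE4 ⊢; linarith only [dE4]
    exact_mod_cast this
  have d4 : (360 * a6 : ℤ) = 56 + 45 * (2 * xt - 56) + 90 * (8 * y - xt) + 20 * (3 * x3 - 56) + 20 * (3 * x33 - 56) +
      864 := by
    have : (360 * a6 : ℚ) = 56 + 45 * (2 * xt - 56) + 90 * (8 * y - xt) + 20 * (3 * x3 - 56) + 20 * (3 * x33 - 56) +
        864 := by
      push_cast at dA6 ⊢; linarith only [dA6]
    exact_mod_cast this
  (solve | lia | omega)

include h2 h3 h5 hψ in
/-- the submodule generated by a vector fixed by `A5` -/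
theorem red7 (hd : ev (V F (ψ (P 7 l3))) 1 = 32) : ∃ W : Submodule F (D1 → F), PsSt ψ W ∧ W ≠ ⊥ ∧ W ≠ ⊤ := by
  set ρ : Representation F A7 (D1 → F) := MonoidHom.comp (V F) ψ with hρ
  have e0 : om ρ 1 = 56 := by rw [om_one, finrank_V]; norm_num
  have hW : (finrank F (D1 → F) : ℚ) = 56 := by rw [finrank_V]; norm_num
  have et := om_t ρ
  have e3 := om_3 ρ
  have e5 := om_5 ρ
  have f5 : ev (ρ (P 7 l5)) 1 = 16 := case_5 h5 hψ
  have f3 : ev (ρ (P 7 l3)) 1 = 32 := hd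
  have ht : ev (ρ (P 7 lt)) 1 = 32 ∨ ev (ρ (P 7 lt)) 1 = 24 := case_t h2 hψ
  rw [hW] at et e3 e5
  rw [f5] at e5
  rw [f3] at e3
  have dA5 := dimA5 ρ h2 h3 h5
  rw [e0, et, e3, e5] at dA5
  have hpos : 0 < finrank F ↥(inv ρ (Tg 7 gA5)) := by
    generalize finrank F ↥(inv ρ (Tg 7 gA5)) = a5 at *
    by_contra h
    have h0 : a5 = 0 := by omega
    subst h0
    rcases ht with h | h <;> rw [h] at dA5 <;> norm_num at dA5
  have := Module.finrank_pos_iff.1 hpos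
  obtain ⟨⟨w, hw⟩, hw0⟩ := exists_ne (0 : ↥(inv ρ (Tg 7 gA5)))
  have hw1 : w ≠ 0 := fun h => hw0 (Subtype.ext h)
  refine ⟨Submodule.span F (Set.range fun g => ρ g w), ?_, ?_, ?_⟩
  · intro a x hx
    exact orbit_stable ρ w a hx
  · intro h
    have h1 : w ∈ Submodule.span F (Set.range fun g => ρ g w) :=
      Submodule.subset_span ⟨1, by show ρ 1 w = w; rw [map_one]; rfl⟩
    rw [h] at h1
    exact hw1 ((Submodule.mem_bot F).1 h1)
  · intro h
    have h1 := orbit_le ρ (Tg 7 gA5) hw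
    rw [h, finrank_top, finrank_V] at h1
    have h2 := (Tg 7 gA5).card_mul_index
    rw [natcard_Tg chkG_A5, len_A5, card_A7] at h2
    omega

end

/-- **`n = 7`, lift, `p ≥ 7`** -/
theorem big {F : Type u} [Field F] [Finite F] {H : Subgroup ↥(chevE7.group F)}
    {φ : ↥(alternatingGroup (Fin 7)) →* ↥(chevE7.group F)} {ψ : ↥(alternatingGroup (Fin 7)) →* Gh F}
    (hM : MaxAlt H 7 φ) (hL : Lift φ ψ) (h2 : (2 : F) ≠ 0) (h3 : (3 : F) ≠ 0) (h5 : (5 : F) ≠ 0) : False := by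
  have := Fintype.ofFinite F
  have hs : IsSimpleGroup ↥(chevE7.group F) := (S1054.result chevE7 (by simp)).1
  have hψ := lift_inj' hM hL
  have h0 := no_fixed hM (by norm_num) (by norm_num) hL
  have hd := d3_eq h2 h3 h5 hψ h0
  obtain ⟨W, hW, hb, ht⟩ := red7 h2 h3 h5 hψ hd
  obtain ⟨q2, q4⟩ := card_ne h2
  exact no_red32 hs h3 q2 q4 le_rfl hM hL l3_cyc hW hb ht hd

/-- **`n = 7`, lift, `p = 7`** -/
theorem sev7 {F : Type u} [Field F] [Finite F] {H : Subgroup ↥(chevE7.group F)}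
    {φ : ↥(alternatingGroup (Fin 7)) →* ↥(chevE7.group F)} {ψ : ↥(alternatingGroup (Fin 7)) →* Gh F}
    (hM : MaxAlt H 7 φ) (hL : Lift φ ψ) (h7 : (7 : F) = 0) : False := by
  refine big hM hL ?_ ?_ ?_
  · intro h
    have : (1 : F) = 7 - 3 * 2 := by norm_num
    rw [h7, h] at this
    simp at this
  · intro h
    have : (1 : F) = 7 - 2 * 3 := by norm_num
    rw [h7, h] at this
    simp at this
  · intro h
    have : (1 : F) = 3 * 5 - 2 * 7 := by norm_num
    rw [h7, h] at this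
    simp at this

/-- **`n = 7`, lift, `p ≥ 11`** -/
theorem sev11 {F : Type u} [Field F] [Finite F] {H : Subgroup ↥(chevE7.group F)}
    {φ : ↥(alternatingGroup (Fin 7)) →* ↥(chevE7.group F)} {ψ : ↥(alternatingGroup (Fin 7)) →* Gh F}
    (hM : MaxAlt H 7 φ) (hL : Lift φ ψ) (h2 : (2 : F) ≠ 0) (h3 : (3 : F) ≠ 0) (h5 : (5 : F) ≠ 0)
    (_h7 : (7 : F) ≠ 0) : False := big hM hL h2 h3 h5

end Cfsg.Agent.R2.T1.N7
end

-- part: R2/T1/N6T/Ar
section
prune_inst 0x1007404106200000018050612003004c4000090002b8001d1000b460206b3008040274058f01802004ea6c07008000811000000424000000e008400000100208487440223100c0832000680e886000000000000000000000000000000041004000000000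
set_option linter.all false
open scoped Cfsg.Agent.FastGrp

-- part: R2/T1/N6D/Data
section
/-!
# S5929, `n = 6`, `p = 2`: the data of the module of degree 56 (helper25)
-/

set_option autoImplicit false
set_option maxRecDepth 100000

namespace Cfsg.Agent.R2.T1.N6D

open Cfsg Cfsg.Lie Module Equiv Equiv.Perm
open Cfsg.Agent.H943.E7V.Block (D1 rho)
open Cfsg.Agent.H952.F4 (ev MaxAlt)
open Cfsg.Agent.R2.T1

universe u

/-- the possible values `(dim V^x, m₁, m₂)` for an element `x` of order 5 -/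
def L5 : List (ℕ × ℕ × ℕ) :=
  [(0, 1, 27), (0, 27, 1), (0, 7, 21), (0, 21, 7), (2, 10, 17), (2, 17, 10), (12, 7, 15), (12, 15, 7), (6, 10, 15),
   (6, 15, 10), (10, 11, 12), (10, 12, 11), (12, 10, 12), (12, 12, 10)]

variable {F : Type u} [Field F] [Finite F] {H : Subgroup ↥(chevE7.group F)}
  {φ : ↥(alternatingGroup (Fin 6)) →* ↥(chevE7.group F)} {ψ : ↥(alternatingGroup (Fin 6)) →* Gh F}

/-- **the data of `V`** -/
theorem dataV (hM : MaxAlt H 6 φ) (hψ : Lift φ ψ) (h2 : (2 : F) = 0) {a b : ↥(alternatingGroup (Fin 6))}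
    (ha : a ^ 3 = 1) (hb : b ^ 3 = 1) (ha1 : a ≠ 1) (hb1 : b ≠ 1) (hI : Ineq F a b z5) (hl : Low F a b) :
    ∃ (dA dB d5 m1 m2 : ℕ) (τ : F), ev (V F (ψ a)) 1 = dA ∧ ev (V F (ψ b)) 1 = dB ∧ ev (V F (ψ z5)) 1 = d5 ∧
      dA ∈ [2, 14, 20, 32] ∧ dB ∈ [2, 14, 20, 32] ∧ (d5, m1, m2) ∈ L5 ∧ τ * τ + τ - 1 = 0 ∧
      finrank F ↥(LinearMap.ker (Five.qd τ (V F (ψ z5)))) = 2 * m1 ∧
      finrank F ↥(LinearMap.ker (Five.qd (-1 - τ) (V F (ψ z5)))) = 2 * m2 ∧
      dA + dB + 3 * d5 ≤ 70 ∧ 28 ≤ dA + dB := by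
  have iV := ineqV hM hψ hI
  have lV := hl (D1 → F) (MonoidHom.comp (V F) ψ)
  rw [finrank_V, MonoidHom.comp_apply, MonoidHom.comp_apply] at lV
  have h3 : (3 : F) ≠ 0 := by exact_mod_cast odd_ne h2 (N := 3) (by decide)
  have h5 : (5 : F) ≠ 0 := by exact_mod_cast odd_ne h2 (N := 5) (by decide)
  have hA : ψ a ^ 3 = 1 := by rw [← map_pow, ha, map_one]
  have hB : ψ b ^ 3 = 1 := by rw [← map_pow, hb, map_one]
  have hC : ψ z5 ^ 5 = 1 := by rw [← map_pow, z5_pow, map_one]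
  have mem : ∀ {x : Gh F}, x ^ 3 = 1 → x ≠ 1 → ev (V F x) 1 ∈ [2, 14, 20, 32] := by
    intro x hx hx1
    simp only [List.mem_cons, List.not_mem_nil, or_false]
    rcases three h3 hx hx1 with h | h | h | h | h <;> (clear * - h; omega)
  obtain ⟨P, hP, p1, -, h6⟩ := patF5 h5 hC
  have key : ∀ P ∈ T5, P.1.getD 0 0 = 56 ∨ 16 ≤ P.1.getD 0 0 ∨ (P.1.getD 1 0 ≠ P.1.getD 2 0 ∧
    (P.1.getD 0 0, P.1.getD 1 0, P.1.getD 2 0) ∈ L5) := by decide +kernel
  rcases key P hP with h | h | ⟨h, h'⟩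
  · rw [h] at p1
    exact absurd (eq_one_of_ev p1) (lift_inj hM hψ z5_ne)
  · omega
  · rcases h6 with ⟨h4, -⟩ | ⟨τ, h4, h6, -, h7, -⟩
    · exact absurd h4 h
    · exact ⟨_, _, _, _, _, τ, rfl, rfl, p1, mem hA (lift_inj hM hψ ha1), mem hB (lift_inj hM hψ hb1), h', h4, h6, h7,
        by omega, by omega⟩

end Cfsg.Agent.R2.T1.N6D
end

-- part: R2/T1/N6T/Ar
section
/-!
# S5929, `n = 6`, `p = 2`: the arithmetic of the last step (helper26)

* `Ok n A B D q₁ q₂ u` : the relations between the dimensions attached to a module of `A₆` in characteristic 2;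
* `rows` : the possible data of the module of degree 56;
* `fin3`, `fin7` : its decompositions.
-/

set_option autoImplicit false
set_option maxHeartbeats 400000

namespace Cfsg.Agent.R2.T1.N6T

/-- the relations between the dimensions attached to a module of `A₆` in characteristic 2 -/
structure Ok (n A B D q1 q2 u : ℕ) : Prop where
  sum : D + q1 + q2 = n
  dA : D ≤ A
  dB : D ≤ B
  pA : 2 ∣ n + A
  pB : 2 ∣ n + B
  e3 : 2 * (A + B) = n + 3 * u
  ineq : 4 * (A + B) + 12 * D ≤ 5 * n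
  s1 : 2 * q1 ≤ n
  s2 : 2 * q2 ≤ n
  v1 : 2 ∣ q1
  v2 : 2 ∣ q2

set_option synthInstance.maxSize 1000 in
/-- the possible data of `V` -/
theorem rows {dA dB d5 m1 m2 u : ℕ} (hA : dA ∈ [2, 14, 20, 32]) (hB : dB ∈ [2, 14, 20, 32])
    (h5 : (d5, m1, m2) ∈ N6D.L5) (h : Ok 56 dA dB d5 (2 * m1) (2 * m2) u) :
    ((d5 = 10 ∧ m1 = 11 ∧ m2 = 12) ∨ (d5 = 10 ∧ m1 = 12 ∧ m2 = 11) ∨ (d5 = 12 ∧ m1 = 10 ∧ m2 = 12) ∨
      (d5 = 12 ∧ m1 = 12 ∧ m2 = 10)) ∧
    ((dA = 14 ∧ dB = 14) ∨ (dA = 14 ∧ dB = 20) ∨ (dA = 20 ∧ dB = 14) ∨ (dA = 20 ∧ dB = 20)) := by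
  have s1 := h.s1
  have s2 := h.s2
  have i1 := h.ineq
  have e3 := h.e3
  have a1 := h.dA
  have a2 := h.dB
  have h5' : (d5 = 10 ∧ m1 = 11 ∧ m2 = 12) ∨ (d5 = 10 ∧ m1 = 12 ∧ m2 = 11) ∨ (d5 = 12 ∧ m1 = 10 ∧ m2 = 12) ∨
      (d5 = 12 ∧ m1 = 12 ∧ m2 = 10) := by
    exact (by decide : ∀ x ∈ N6D.L5, 2 * (2 * x.2.1) ≤ 56 ∧ 2 * (2 * x.2.2) ≤ 56 →
      (x.1 = 10 ∧ x.2.1 = 11 ∧ x.2.2 = 12) ∨ (x.1 = 10 ∧ x.2.1 = 12 ∧ x.2.2 = 11) ∨
        (x.1 = 12 ∧ x.2.1 = 10 ∧ x.2.2 = 12) ∨ (x.1 = 12 ∧ x.2.1 = 12 ∧ x.2.2 = 10)) _ h5 ⟨s1, s2⟩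
  refine ⟨h5', ?_⟩
  have hd : d5 = 10 ∨ d5 = 12 := by
    clear i1 e3 a1 a2 hA hB h s1 s2 h5
    omega
  clear h5 h5' s1 s2 h
  simp only [List.mem_cons, List.not_mem_nil, or_false] at hA hB
  rcases hA with rfl | rfl | rfl | rfl <;> rcases hB with rfl | rfl | rfl | rfl <;> omega

/-- the equations in terms of the excess -/
theorem Ok.par {n A B D x y u : ℕ} (h : Ok n A B D x y u) : ∃ a b x' y', A = D + 2 * a ∧ B = D + 2 * b ∧ x = 2 * x' ∧
    y = 2 * y' ∧ n = D + 2 * x' + 2 * y' ∧ 4 * D + 4 * a + 4 * b = n + 3 * u ∧ 2 * u + 4 * D ≤ n ∧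
    4 * x' ≤ n ∧ 4 * y' ≤ n := by
  obtain ⟨b1, b2, b3, b4, b5, b6, b7, b8, b9, ⟨x', rfl⟩, ⟨y', rfl⟩⟩ := h
  have h1 : A = D + 2 * ((A - D) / 2) := by clear b5 b6 b7 b8 b9 b3; (solve | lia | omega)
  have h2 : B = D + 2 * ((B - D) / 2) := by clear b4 b6 b7 b8 b9 b2 h1; (clear * - b3 b5 b1; omega)
  refine ⟨(A - D) / 2, (B - D) / 2, x', y', h1, h2, rfl, rfl, b1.symm, ?_, ?_, ?_, ?_⟩
  · generalize (A - D) / 2 = a at h1
    generalize (B - D) / 2 = b at h2
    clear b4 b5 b7 b8 b9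
    (clear * - b6 h1 h2; omega)
  · clear h1 h2 b4 b5 b8 b9
    (clear * - b6 b7; omega)
  · clear h1 h2 b1 b2 b3 b4 b5 b6 b7 b9
    omega
  · clear h1 h2 b1 b2 b3 b4 b5 b6 b7 b8
    omega

theorem third {k a : ℕ} (h : 3 ∣ k + 2 * a) (hk : 3 ∣ k) : ∃ c, a = 3 * c := by
  obtain ⟨k, rfl⟩ := hk
  exact ⟨a / 3, by omega⟩

theorem third' {a : ℕ} (h : 3 ∣ 2 * a) : ∃ c, a = 3 * c := ⟨a / 3, by omega⟩

theorem zero3 {w a b dA dB d5 u : ℕ} (r1 : d5 = 10 ∨ d5 = 12)
    (r2 : (dA = 14 ∧ dB = 14 ∧ u = 0) ∨ (dA = 14 ∧ dB = 20 ∧ u = 4) ∨ (dA = 20 ∧ dB = 14 ∧ u = 4) ∨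
      (dA = 20 ∧ dB = 20 ∧ u = 8))
    (k1 : d5 + 6 * a ≤ dA) (k2 : d5 + 6 * b ≤ dB) (f1 : 5 * w ≤ 4 * (a + b))
    (f2 : 4 * d5 + 2 * u + 12 * (a + b) ≤ 56 + 15 * w) (k4 : 3 * w ≤ u) : a = 0 ∧ b = 0 ∧ w = 0 := by
  have ha : a ≤ 1 := by clear f1 f2 k4 k2; omega
  have hb : b ≤ 1 := by clear f1 f2 k4 k1; omega
  have hw : w ≤ 2 := by clear f1 f2 k1 k2; omega
  rcases r1 with rfl | rfl <;> rcases r2 with ⟨rfl, rfl, rfl⟩ | ⟨rfl, rfl, rfl⟩ | ⟨rfl, rfl, rfl⟩ | ⟨rfl, rfl, rfl⟩ <;>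
    interval_cases w <;> interval_cases a <;> interval_cases b <;> simp_all only [_root_.zero_le, _root_.MulZeroClass.mul_zero, _root_.Std.le_refl, _root_.add_zero, _root_.Nat.reduceLeDiff, _root_.Nat.reduceMul, _root_.and_self, _root_.mul_one, _root_.Nat.reduceAdd, _root_.Nat.one_le_ofNat, _root_.nonpos_iff_eq_zero, _root_.OfNat.ofNat_ne_zero, _root_.zero_add]

theorem end3 {d5 m1 m2 : ℕ}
    (r1 : (d5 = 10 ∧ m1 = 11 ∧ m2 = 12) ∨ (d5 = 10 ∧ m1 = 12 ∧ m2 = 11) ∨ (d5 = 12 ∧ m1 = 10 ∧ m2 = 12) ∨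
      (d5 = 12 ∧ m1 = 12 ∧ m2 = 10)) {D x y : ℕ} (e1 : 4 * D = D + 2 * x + 2 * y)
    (k5 : 4 * m1 + 12 * D ≤ 56 + 12 * x) (k6 : 4 * m2 + 12 * D ≤ 56 + 12 * y) (k7 : 3 * D ≤ d5) : D ≤ 2 := by
  have h : D ≤ 4 := by (clear * - r1 k7; omega)
  interval_cases D <;> omega

/-- the decomposition of the module of degree 56, parametrised -/
theorem main3 {dA dB d5 m1 m2 u : ℕ}
    (r1 : (d5 = 10 ∧ m1 = 11 ∧ m2 = 12) ∨ (d5 = 10 ∧ m1 = 12 ∧ m2 = 11) ∨ (d5 = 12 ∧ m1 = 10 ∧ m2 = 12) ∨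
      (d5 = 12 ∧ m1 = 12 ∧ m2 = 10))
    (r2 : (dA = 14 ∧ dB = 14 ∧ u = 0) ∨ (dA = 14 ∧ dB = 20 ∧ u = 4) ∨ (dA = 20 ∧ dB = 14 ∧ u = 4) ∨
      (dA = 20 ∧ dB = 20 ∧ u = 8))
    {n D w a b x y n' D' w' a' b' x' y' : ℕ}
    (p1 : n = D + 2 * x + 2 * y) (p2 : 4 * D + 4 * a + 4 * b = n + 3 * w) (p3 : 2 * w + 4 * D ≤ n)
    (q3 : 2 * w' + 4 * D' ≤ n')
    (q4 : 4 * x' ≤ n') (q5 : 4 * y' ≤ n') (sn : 56 = 3 * n + n') (sA : dA = 3 * D + 6 * a + (D' + 2 * a'))
    (sB : dB = 3 * D + 6 * b + (D' + 2 * b')) (sD : d5 = 3 * D + D') (sx : m1 = 3 * x + x') (sy : m2 = 3 * y + y')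
    (su : u = 3 * w + w') : n ≤ 8 := by
  have k1 : d5 + 6 * a ≤ dA := by
    clear r1 r2 sn sB sx sy su q3 q4 q5 p1 p2 p3
    (solve | lia | omega)
  have k2 : d5 + 6 * b ≤ dB := by
    clear r1 r2 sn sA sx sy su q3 q4 q5 p1 p2 p3 k1
    (solve | lia | omega)
  have k4 : 3 * w ≤ u := by rw [su]; exact Nat.le_add_right _ _
  have f1 : 5 * w ≤ 4 * (a + b) := by
    clear r1 r2 sn sA sB sD sx sy su q3 q4 q5 p1 k1 k2 k4
    omega
  have f2 : 4 * d5 + 2 * u + 12 * (a + b) ≤ 56 + 15 * w := by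
    rw [sD, su]
    clear r1 r2 sA sB sD sx sy su q4 q5 p1 k1 k2 k4 f1
    (solve | lia | omega)
  obtain ⟨rfl, rfl, rfl⟩ := zero3 (by (clear * - r1 sB; omega)) r2 k1 k2 f1 f2 k4
  have hn : n = 4 * D := by
    clear r1 r2 sn sA sB sD sx sy su q3 q4 q5 p1 k1 k2 k4 f1 f2 p3
    omega
  subst hn
  have e1 : 4 * m1 + 12 * D ≤ 56 + 12 * x := by
    rw [sx]
    clear r1 r2 sA sB sD sx sy su q3 q5 p1 k1 k2 k4 f1 f2 p3 p2
    omega
  have e2 : 4 * m2 + 12 * D ≤ 56 + 12 * y := by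
    rw [sy]
    clear r1 r2 sA sB sD sx sy su q3 q4 p1 k1 k2 k4 f1 f2 p3 p2 e1
    omega
  have := end3 r1 p1 e1 e2 (by rw [sD]; exact Nat.le_add_right _ _)
  clear r1 r2 sn sA sB sD sx sy su q3 q4 q5 p1 k1 k2 k4 f1 f2 p3 p2 e1 e2
  omega

/-- the possible data of `V` -/
theorem rowsU {dA dB u : ℕ} (r2 : (dA = 14 ∧ dB = 14) ∨ (dA = 14 ∧ dB = 20) ∨ (dA = 20 ∧ dB = 14) ∨ (dA = 20 ∧ dB = 20))
    (e : 2 * (dA + dB) = 56 + 3 * u) : (dA = 14 ∧ dB = 14 ∧ u = 0) ∨ (dA = 14 ∧ dB = 20 ∧ u = 4) ∨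
      (dA = 20 ∧ dB = 14 ∧ u = 4) ∨ (dA = 20 ∧ dB = 20 ∧ u = 8) := by
  rcases r2 with ⟨rfl, rfl⟩ | ⟨rfl, rfl⟩ | ⟨rfl, rfl⟩ | ⟨rfl, rfl⟩ <;> (solve | lia | omega)

theorem fin3 {dA dB d5 m1 m2 u : ℕ}
    (r1 : (d5 = 10 ∧ m1 = 11 ∧ m2 = 12) ∨ (d5 = 10 ∧ m1 = 12 ∧ m2 = 11) ∨ (d5 = 12 ∧ m1 = 10 ∧ m2 = 12) ∨
      (d5 = 12 ∧ m1 = 12 ∧ m2 = 10))
    (r2 : (dA = 14 ∧ dB = 14) ∨ (dA = 14 ∧ dB = 20) ∨ (dA = 20 ∧ dB = 14) ∨ (dA = 20 ∧ dB = 20))
    (h : Ok 56 dA dB d5 (2 * m1) (2 * m2) u)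
    {n1 A1 B1 D1 x1 y1 u1 n2 A2 B2 D2 x2 y2 u2 : ℕ} (h1 : Ok n1 A1 B1 D1 x1 y1 u1) (h2 : Ok n2 A2 B2 D2 x2 y2 u2)
    (sn : 56 = n1 + n2) (sA : dA = A1 + A2) (sB : dB = B1 + B2) (sD : d5 = D1 + D2) (sx : 2 * m1 = x1 + x2)
    (sy : 2 * m2 = y1 + y2) (su : u = u1 + u2) (tn : 3 ∣ n1) (tA : 3 ∣ A1) (tB : 3 ∣ B1) (tD : 3 ∣ D1) (tx : 3 ∣ x1)
    (ty : 3 ∣ y1) (tu : 3 ∣ u1) : n1 ≤ 24 := by
  have r2' := rowsU r2 h.e3
  obtain ⟨a, b, x, y, rfl, rfl, rfl, rfl, p1, p2, p3, p4, p5⟩ := h1.par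
  obtain ⟨a', b', x', y', rfl, rfl, rfl, rfl, q1, q2, q3, q4, q5⟩ := h2.par
  obtain ⟨a, rfl⟩ := third tA tD
  obtain ⟨b, rfl⟩ := third tB tD
  obtain ⟨x, rfl⟩ := third' tx
  obtain ⟨y, rfl⟩ := third' ty
  obtain ⟨D, rfl⟩ := tD
  obtain ⟨n, rfl⟩ := tn
  obtain ⟨w, rfl⟩ := tu
  clear h h1 h2 tA tB tx ty p4 p5 q1 q2 r2
  have sx' : m1 = 3 * x + x' := by
    clear sn sA sB sD sy su p1 p2 p3 q3 q4 q5 r1 r2'
    omega
  have sy' : m2 = 3 * y + y' := by
    clear sn sA sB sD sx su p1 p2 p3 q3 q4 q5 r1 r2' sx'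
    omega
  have p1' : n = D + 2 * x + 2 * y := by
    clear sn sA sB sD sx sy su p2 p3 q3 q4 q5 r1 r2' sx' sy'
    omega
  have p2' : 4 * D + 4 * a + 4 * b = n + 3 * w := by
    clear sn sA sB sD sx sy su p1 p3 q3 q4 q5 r1 r2' sx' sy' p1'
    (solve | lia | omega)
  have p3' : 2 * w + 4 * D ≤ n := by
    clear sn sA sB sD sx sy su p1 p2 q3 q4 q5 r1 r2' sx' sy' p1' p2'
    omega
  have sA' : dA = 3 * D + 6 * a + (D2 + 2 * a') := by
    rw [sA]
    clear sn sA sB sD sx sy su p1 p2 p3 q3 q4 q5 r1 r2' sx' sy' p1' p2' p3'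
    omega
  have sB' : dB = 3 * D + 6 * b + (D2 + 2 * b') := by
    rw [sB]
    clear sn sA sB sD sx sy su p1 p2 p3 q3 q4 q5 r1 r2' sx' sy' p1' p2' p3' sA'
    omega
  have := main3 r1 r2' p1' p2' p3' q3 q4 q5 sn sA' sB' sD sx' sy' su
  (clear * - this; omega)

theorem sev {k a : ℕ} (h : 7 ∣ k + 2 * a) (hk : 7 ∣ k) : ∃ c, a = 7 * c := by
  obtain ⟨k, rfl⟩ := hk
  exact ⟨a / 7, by (solve | lia | omega)⟩

theorem sev' {a : ℕ} (h : 7 ∣ 2 * a) : ∃ c, a = 7 * c := ⟨a / 7, by omega⟩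

theorem fin7 {dA dB d5 m1 m2 : ℕ}
    (r1 : (d5 = 10 ∧ m1 = 11 ∧ m2 = 12) ∨ (d5 = 10 ∧ m1 = 12 ∧ m2 = 11) ∨ (d5 = 12 ∧ m1 = 10 ∧ m2 = 12) ∨
      (d5 = 12 ∧ m1 = 12 ∧ m2 = 10))
    (r2 : (dA = 14 ∧ dB = 14) ∨ (dA = 14 ∧ dB = 20) ∨ (dA = 20 ∧ dB = 14) ∨ (dA = 20 ∧ dB = 20))
    {n1 A1 B1 D1 x1 y1 u1 n2 A2 B2 D2 x2 y2 u2 : ℕ} (h1 : Ok n1 A1 B1 D1 x1 y1 u1) (h2 : Ok n2 A2 B2 D2 x2 y2 u2)
    (sA : dA = A1 + A2) (sB : dB = B1 + B2) (sD : d5 = D1 + D2) (tn : 7 ∣ n1) (tA : 7 ∣ A1) (tB : 7 ∣ B1)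
    (tD : 7 ∣ D1) (tx : 7 ∣ x1) (ty : 7 ∣ y1) (tu : 7 ∣ u1) : n1 = 0 := by
  obtain ⟨a, b, x, y, rfl, rfl, rfl, rfl, p1, p2, p3, p4, p5⟩ := h1.par
  obtain ⟨a', b', x', y', rfl, rfl, rfl, rfl, q1, q2, q3, q4, q5⟩ := h2.par
  obtain ⟨a, rfl⟩ := sev tA tD
  obtain ⟨b, rfl⟩ := sev tB tD
  obtain ⟨x, rfl⟩ := sev' tx
  obtain ⟨y, rfl⟩ := sev' ty
  obtain ⟨D, rfl⟩ := tD
  obtain ⟨n, rfl⟩ := tn
  obtain ⟨w, rfl⟩ := tu
  clear h1 h2 tA tB tx ty p4 p5 q1 q2 q3 q4 q5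
  have hd : d5 = 10 ∨ d5 = 12 := by
    clear sA sB sD p1 p2 p3 r2
    omega
  clear r1
  have ha : a = 0 := by
    clear p1 p2 p3 sB
    omega
  have hb : b = 0 := by
    clear p1 p2 p3 sA ha
    omega
  subst ha hb
  have hw : w = 0 := by
    clear p1 sA sB sD r2 hd
    (solve | lia | omega)
  subst hw
  have hn : n = 4 * D := by
    clear p1 sA sB sD r2 hd p3
    omega
  subst hn
  have hD : D ≤ 1 := by
    clear p1 p2 p3 sA sB r2
    omega
  clear p2 p3 sA sB sD r2 hd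
  interval_cases D <;> omega

end Cfsg.Agent.R2.T1.N6T
end

private theorem dce_5416998a1a5d : _root_.True := by
  try have : _root_.True := by simp only [_root_.Cfsg.Agent.R2.T1.N6D.L5.eq_1]
  exact _root_.True.intro
end

-- part: R2/T1/N6D/Par
section
prune_inst 0x1007444106200000018050412001004c000010000088000b0000f060206b240a000284148b00c02003e9cc03000000810000000405000000400300000030020802b440223100c08320000802084000000000000000000000000000000041004000000000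
set_option linter.all false
open scoped Cfsg.Agent.FastGrp

/-!
# S5929, `n = 6`, `p = 2`: parities and the decomposition for the elements of order 5 (helper25)
-/

set_option autoImplicit false
set_option maxRecDepth 100000

namespace Cfsg.Agent.R2.T1.N6D.I2

open Module Equiv Equiv.Perm
open Cfsg.Agent.R2.T1
open Cfsg.Agent.H952.F4 (ev)

universe u v

section
variable {F : Type u} [Field F] {M : Type v} [AddCommGroup M] [Module F M]

/-- real elements of order 3 -/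
theorem even_real [FiniteDimensional F M] (h2 : (2 : F) = 0) {T S : Module.End F M} (hT : ∀ m, T (T (T m)) = m)
    (hS : ∀ m, S (T m) = T (T (S m))) (hSS : ∀ m, S (S m) = m) : 2 ∣ finrank F M + ev T 1 := by
  have h0 : finrank F M = finrank F ↥(Fx T) + finrank F ↥(Kp T) := by
    have h := split h2 hT ⊤ (fun _ _ => trivial)
    rwa [finrank_top, top_inf_eq, top_inf_eq] at h
  have hK : ∀ m ∈ Kp T, T m ∈ Kp T := by
    intro m hm
    rw [mem_Kp] at hm ⊢
    rw [← map_add, ← map_add, hm, map_zero]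
  have h1 := dbl hT hS (Kp T) hK (by
    intro m hm h3
    rw [mem_Kp, h3, h3, two0 h2, zero_add] at hm
    exact hm)
  have h3 := half h2 (T := S) (Kp T) (by
    intro m hm
    rw [mem_Kp] at hm ⊢
    have h4 := congrArg S hm
    rw [map_add, map_add, map_zero, hS, hS, hS, hT] at h4
    rw [← h4]
    abel) (fun m _ => hSS m)
  have e : ev T 1 = finrank F ↥(Fx T) := rfl
  rw [e]
  omega

/-- **the decomposition for an operator of order 5** -/
theorem sum_five [FiniteDimensional F M] (h2 : (2 : F) = 0) {τ : F} (hτ : τ * τ + τ - 1 = 0) {T : Module.End F M}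
    (hT : ∀ m, T (T (T (T (T m)))) = m) :
    ev T 1 + finrank F ↥(LinearMap.ker (Five.qd τ T)) + finrank F ↥(LinearMap.ker (Five.qd (-1 - τ) T)) = finrank F M := by
  set N : Module.End F M := 1 + T + T * T + T * (T * T) + T * (T * (T * T)) with hN
  have hNa : ∀ m, N m = m + T m + T (T m) + T (T (T m)) + T (T (T (T m))) := fun m => rfl
  have hqd : ∀ (t : F) (m : M), Five.qd t T m = T (T m) - t • T m + m := fun t m => rfl
  have h1 := finrank_ker_res ⊤ N
  rw [finrank_top, top_inf_eq] at h1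
  have e1 : (⊤ : Submodule F M).map N = Fx T := by
    ext m
    constructor
    · rintro ⟨x, -, rfl⟩
      rw [mem_Fx, hNa]
      simp only [map_add, hT]
      abel
    · intro hm
      rw [mem_Fx] at hm
      refine ⟨m, trivial, ?_⟩
      rw [hNa, hm, hm, hm, hm, two0 h2, zero_add, two0 h2, zero_add]
  have key : ∀ m, N m = Five.qd (-1 - τ) T (Five.qd τ T m) := by
    intro m
    rw [hNa, hqd, hqd]
    simp only [map_add, map_sub, map_smul]
    linear_combination (norm := module) hτ • (T (T m))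
  have key' : ∀ m, N m = Five.qd τ T (Five.qd (-1 - τ) T m) := by
    intro m
    rw [hNa, hqd, hqd]
    simp only [map_add, map_sub, map_smul]
    linear_combination (norm := module) hτ • (T (T m))
  have h3 := finrank_ker_res (LinearMap.ker N) (Five.qd τ T)
  have e2 : LinearMap.ker N ⊓ LinearMap.ker (Five.qd τ T) = LinearMap.ker (Five.qd τ T) := by
    refine inf_eq_right.2 fun m hm => ?_
    rw [LinearMap.mem_ker] at hm ⊢
    rw [key, hm, map_zero]
  have e3 : (LinearMap.ker N).map (Five.qd τ T) = LinearMap.ker (Five.qd (-1 - τ) T) := by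
    ext m
    constructor
    · rintro ⟨x, hx, rfl⟩
      rw [LinearMap.mem_ker, ← key]
      exact hx
    · intro hm
      refine ⟨T (T (T (T m))), ?_, ?_⟩
      · have h4 : N (T (T (T (T m)))) = N m := by
          rw [hNa, hNa]
          simp only [hT]
          abel
        show N (T (T (T (T m)))) = 0
        rw [h4, key', LinearMap.mem_ker.1 hm, map_zero]
      · have h4 : T (T m) = (-1 - τ) • T m - m := Five.mem_ker_qd.1 hm
        have h5 : Five.qd τ T m = T m := by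
          rw [hqd, h4]
          linear_combination (norm := module) (-(1 + τ) * h2) • T m
        have h6 : Five.qd τ T (T (T (T (T m)))) = T (T (T (T (Five.qd τ T m)))) := by
          rw [hqd, hqd]
          simp only [map_add, map_sub, map_smul]
        rw [h6, h5, hT]
  rw [e1] at h1
  rw [e2, e3] at h3
  have e : ev T 1 = finrank F ↥(Fx T) := rfl
  rw [e]
  omega

variable (ρ : Representation F ↥(alternatingGroup (Fin 6)) M)

theorem even_A [FiniteDimensional F M] (h2 : (2 : F) = 0) : 2 ∣ finrank F M + ev (ρ pa) 1 :=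
  even_real h2 (S := ρ (py * py)) (b3 ρ pa3) (sb ρ pys_a) fun m => by rw [← rm, py4, r1]

theorem even_B [FiniteDimensional F M] (h2 : (2 : F) = 0) : 2 ∣ finrank F M + ev (ρ (pa * pa')) 1 :=
  even_real h2 (S := ρ (py * py)) (b3 ρ pb3) (sb ρ pbs) fun m => by rw [← rm, py4, r1]

theorem sum5 [FiniteDimensional F M] (h2 : (2 : F) = 0) {τ : F} (hτ : τ * τ + τ - 1 = 0) :
    ev (ρ z5) 1 + finrank F ↥(LinearMap.ker (Five.qd τ (ρ z5))) + finrank F ↥(LinearMap.ker (Five.qd (-1 - τ) (ρ z5))) =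
      finrank F M := by
  refine sum_five h2 hτ fun m => ?_
  have h := z5_pow
  rw [show (5 : ℕ) = 4 + 1 from rfl, pow_succ, pow_succ, pow_succ, pow_succ, pow_one] at h
  rw [← rm, ← rm, ← rm, ← rm, h, r1]

end

end Cfsg.Agent.R2.T1.N6D.I2
end

-- part: R2/T1/N7/P2b
section
prune_inst 0x1003044002200000018050602001040c40001020048800000000f060240a0402001284118f0041200388cc060000008110000000240000004000400000100208083440223100c08320006000004000000000000000000000000000000000004000000000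
set_option linter.all false
open scoped Cfsg.Agent.FastGrp

/-!
# S5929, `n = 7`, `p = 2`: the inequality of `A₆` for self-dual modules with fixed vectors (helper27)

`ineq_fix` : `4 (dim M^a + dim M^b) + 12 dim M^c ≤ 5 dim M + 30 dim M^X`, from `Ineq` applied to `U^⊥ / (U ∩ U^⊥)`, `U = M^X`.
-/

set_option autoImplicit false
set_option maxRecDepth 100000

namespace Cfsg.Agent.R2.T1.N7.P2

open Module
open Cfsg.Agent.H952.F4 (ev)
open Cfsg.Agent.R2.T1.N6D (Ineq exists_avg ev_quot exists_rep)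

universe u v

section gen
variable {F : Type u} [Field F] {M : Type v} [AddCommGroup M] [Module F M] {G : Type*} [Group G]
  (ρ : Representation F G M)

/-- `K` with trivial action on `M/K` -/
theorem ev_sub_triv [FiniteDimensional F M] {N : ℕ} (hN : (N : F) ≠ 0) {T : Module.End F M} (hT : T ^ N = 1)
    {K : Submodule F M} (hK : ∀ k ∈ K, T k ∈ K) (hK2 : ∀ m, T m - m ∈ K) {T' : Module.End F ↥K}
    (hT' : ∀ k : ↥K, (T' k : M) = T k) : ev T' 1 + finrank F M = ev T 1 + finrank F ↥K := by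
  have h1 : Module.End.eigenspace T 1 ⊔ K = ⊤ := by
    rw [eq_top_iff]
    intro m _
    obtain ⟨m', h1, h2⟩ := exists_avg hN hT (hK2 m) hK
    rw [Submodule.mem_sup]
    refine ⟨m', ?_, m - m', ?_, add_sub_cancel _ _⟩
    · rw [Module.End.mem_eigenspace_iff, one_smul]
      exact h1
    · rw [← neg_sub]
      exact K.neg_mem h2
  have h2 := Submodule.finrank_sup_add_finrank_inf_eq (Module.End.eigenspace T 1) K
  rw [h1, finrank_top] at h2
  have h3 : finrank F ↥(Module.End.eigenspace T 1 ⊓ K) = ev T' 1 := by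
    unfold ev
    let f : ↥(Module.End.eigenspace T' 1) →ₗ[F] M := K.subtype.comp (Module.End.eigenspace T' 1).subtype
    have hf : Function.Injective f := fun x y h => Subtype.ext (Subtype.ext h)
    have hr : LinearMap.range f = Module.End.eigenspace T 1 ⊓ K := by
      ext x
      rw [LinearMap.mem_range, Submodule.mem_inf, Module.End.mem_eigenspace_iff, one_smul]
      constructor
      · rintro ⟨⟨k, hk⟩, rfl⟩
        rw [Module.End.mem_eigenspace_iff, one_smul] at hk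
        refine ⟨?_, k.2⟩
        show T (k : M) = k
        rw [← hT', hk]
      · rintro ⟨h4, h5⟩
        refine ⟨⟨⟨x, h5⟩, ?_⟩, rfl⟩
        rw [Module.End.mem_eigenspace_iff, one_smul]
        exact Subtype.ext (by rw [hT']; exact h4)
    rw [← hr, LinearMap.finrank_range_of_inj hf]
  rw [h3] at h2
  unfold ev at h2 ⊢
  omega

/-- **vectors which are fixed modulo fixed vectors are fixed** -/
theorem fix_mod (h3 : (3 : F) ≠ 0) (hgen : ∀ K : Subgroup G, (∀ g, g ^ 3 = 1 → g ∈ K) → K = ⊤) {m : M}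
    (hm : ∀ g, ρ g m - m ∈ ρ.invariants) : m ∈ ρ.invariants := by
  let K : Subgroup G :=
    { carrier := {g | ρ g m = m}
      one_mem' := by
        show ρ 1 m = m
        rw [map_one]
        rfl
      mul_mem' := fun {g k} hg hk => by
        show ρ (g * k) m = m
        rw [map_mul, Module.End.mul_apply]
        have hg' : ρ g m = m := hg
        have hk' : ρ k m = m := hk
        rw [hk', hg']
      inv_mem' := fun {g} hg => by
        show ρ g⁻¹ m = m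
        have hg' : ρ g m = m := hg
        have h1 := congrArg (ρ g⁻¹) hg'
        rw [← Module.End.mul_apply, ← map_mul, inv_mul_cancel, map_one, Module.End.one_apply] at h1
        exact h1.symm }
  have hK : K = ⊤ := by
    refine hgen K fun g hg => ?_
    show ρ g m = m
    have h1 := hm g g
    have h2 : ρ g (ρ g m) = ρ g m + (ρ g m - m) := by
      rw [map_sub, sub_eq_iff_eq_add] at h1
      rw [h1, add_comm]
    have h4 := hm g g
    have h5 : ρ (g ^ 3) m = m := by rw [hg, map_one, Module.End.one_apply]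
    rw [pow_succ, pow_two, map_mul, map_mul, Module.End.mul_apply, Module.End.mul_apply, h2, map_add, h4, h2] at h5
    have h6 : (3 : F) • (ρ g m - m) = 0 := by
      have e : (3 : F) • (ρ g m - m) = (ρ g m + (ρ g m - m) + (ρ g m - m)) - m := by
        have e3 : (3 : F) = 1 + 1 + 1 := by norm_num
        rw [e3, add_smul, add_smul, one_smul]
        abel
      rw [e, h5, sub_self]
    exact sub_eq_zero.1 ((smul_eq_zero.1 h6).resolve_left h3)
  intro g
  have h1 : g ∈ K := by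
    rw [hK]
    trivial
  exact h1

end gen

section main
variable {F : Type u} [Field F] {M : Type u} [AddCommGroup M] [Module F M] [FiniteDimensional F M]

/-- **the inequality for self-dual modules with fixed vectors** -/
theorem ineq_fix (h2 : (2 : F) = 0) {a b c : ↥(alternatingGroup (Fin 6))} (ha : a ^ 3 = 1) (hb : b ^ 3 = 1)
    (hc : c ^ 5 = 1) (hI : Ineq F a b c)
    (hgen : ∀ K : Subgroup ↥(alternatingGroup (Fin 6)), (∀ g, g ^ 3 = 1 → g ∈ K) → K = ⊤)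
    (ρ : Representation F ↥(alternatingGroup (Fin 6)) M) (B : M →ₗ[F] M →ₗ[F] F)
    (hZ : ∀ y, (∀ x, B x y = 0) → y = 0) (hs : ∀ x y, B x y = 0 → B y x = 0)
    (hi : ∀ g x y, B (ρ g x) (ρ g y) = B x y) :
    4 * (ev (ρ a) 1 + ev (ρ b) 1) + 12 * ev (ρ c) 1 ≤ 5 * finrank F M + 30 * finrank F ↥ρ.invariants := by
  have h3 : (3 : F) ≠ 0 := by
    intro h
    have h1 : (1 : F) = 0 := by linear_combination h - h2
    exact one_ne_zero h1
  have h5 : (5 : F) ≠ 0 := by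
    intro h
    have h1 : (1 : F) = 0 := by linear_combination h - 2 * h2
    exact one_ne_zero h1
  let Φ : Submodule F (Module.Dual F M) := ρ.invariants.map B.flip
  let K : Submodule F M := Φ.dualCoannihilator
  have hK : ∀ x, x ∈ K ↔ ∀ y ∈ ρ.invariants, B x y = 0 := by
    intro x
    show x ∈ Φ.dualCoannihilator ↔ _
    rw [Submodule.mem_dualCoannihilator]
    constructor
    · intro h y hy
      exact h (B.flip y) (Submodule.mem_map_of_mem hy)
    · rintro h _ ⟨y, hy, rfl⟩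
      exact h y hy
  have hi' : ∀ g x y, B (ρ g x) y = B x (ρ g⁻¹ y) := by
    intro g x y
    rw [← hi g x (ρ g⁻¹ y), ← Module.End.mul_apply (ρ g) (ρ g⁻¹), ← map_mul, mul_inv_cancel, map_one,
      Module.End.one_apply]
  have hKs : ∀ g, K ≤ K.comap (ρ g) := by
    intro g x hx
    rw [Submodule.mem_comap, hK]
    intro y hy
    rw [hi', hy g⁻¹]
    exact (hK x).1 hx y hy
  have hKt : ∀ g m, ρ g m - m ∈ K := by
    intro g m
    rw [hK]
    intro y hy
    rw [map_sub, LinearMap.sub_apply, hi', hy g⁻¹, sub_self]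
  have hKK : ∀ z, (∀ k ∈ K, B k z = 0) → z ∈ ρ.invariants := by
    intro z hz
    have h1 : B.flip z ∈ K.dualAnnihilator := by
      rw [Submodule.mem_dualAnnihilator]
      intro k hk
      exact hz k hk
    have h4 : Φ.dualCoannihilator.dualAnnihilator = Φ := Subspace.dualCoannihilator_dualAnnihilator_eq
    have h6 : B.flip z ∈ Φ := by
      rw [← h4]
      exact h1
    obtain ⟨y, hy, hyz⟩ := h6
    have h7 : y - z = 0 := by
      refine hZ _ fun x => ?_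
      have h8 := congrArg (fun f : Module.Dual F M => f x) hyz
      have h9 : B x y = B x z := h8
      rw [map_sub, h9, sub_self]
    rw [← sub_eq_zero.1 h7]
    exact hy
  have hdim := Subspace.finrank_add_finrank_dualCoannihilator_eq (K := F) (V := M) Φ
  have hdimΦ : finrank F ↥Φ ≤ finrank F ↥ρ.invariants := Submodule.finrank_map_le _ _
  let ρK : Representation F ↥(alternatingGroup (Fin 6)) ↥K := ρ.subrepresentation K hKs
  have hρK : ∀ g (k : ↥K), (ρK g k : M) = ρ g k := fun g k => rfl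
  let Z : Submodule F ↥K := ρ.invariants.comap K.subtype
  have hZinv : ∀ z ∈ Z, ∀ g, ρK g z = z := by
    intro z hz g
    exact Subtype.ext (by rw [hρK]; exact hz g)
  have hZs : ∀ g, Z ≤ Z.comap (ρK g) := by
    intro g z hz
    rw [Submodule.mem_comap, hZinv z hz]
    exact hz
  have hdimZ : finrank F ↥Z ≤ finrank F ↥ρ.invariants := by
    let f : ↥Z →ₗ[F] ↥ρ.invariants := (K.subtype.comp Z.subtype).codRestrict _ fun z => z.2
    refine LinearMap.finrank_le_finrank_of_injective (f := f) fun x y h => ?_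
    have h' : ((f x : ↥ρ.invariants) : M) = (f y : ↥ρ.invariants) := by rw [h]
    exact Subtype.ext (Subtype.ext h')
  let ρ' : Representation F ↥(alternatingGroup (Fin 6)) (↥K ⧸ Z) := ρK.quotient Z hZs
  have hρ' : ∀ g (k : ↥K), ρ' g (Submodule.Quotient.mk k) = Submodule.Quotient.mk (ρK g k) := fun g k => rfl
  have e1 : ρ'.invariants = ⊥ := by
    rw [eq_bot_iff]
    intro q hq
    obtain ⟨k, rfl⟩ := Submodule.Quotient.mk_surjective Z q
    rw [Submodule.mem_bot, Submodule.Quotient.mk_eq_zero]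
    refine fix_mod ρ h3 hgen fun g => ?_
    have h1 := hq g
    rw [hρ', Submodule.Quotient.eq] at h1
    exact h1
  have e2 : ∀ f : Module.Dual F (↥K ⧸ Z), (∀ g m, f (ρ' g m) = f m) → f = 0 := by
    intro f hf
    obtain ⟨f', hf'⟩ := LinearMap.exists_extend (f.comp Z.mkQ)
    obtain ⟨y, hy⟩ := exists_rep B (Z := ⊥) (fun y => by
      rw [Submodule.mem_bot]
      constructor
      · exact hZ y
      · rintro rfl x
        rw [map_zero]) hs f' (fun z hz => by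
        rw [(Submodule.mem_bot _).1 hz, map_zero])
    have hk : ∀ k : ↥K, B k y = f (Submodule.Quotient.mk k) := by
      intro k
      rw [← hy]
      exact congrArg (fun f : Module.Dual F ↥K => f k) hf'
    have hyU : y ∈ ρ.invariants := by
      refine fix_mod ρ h3 hgen fun g => ?_
      refine hKK _ fun k hkK => ?_
      rw [map_sub]
      have h1 : B k (ρ g y) = B (ρ g⁻¹ k) y := by rw [hi', inv_inv]
      have h4 := hk (ρK g⁻¹ ⟨k, hkK⟩)
      have h6 := hk ⟨k, hkK⟩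
      rw [hρK, ← hρ', hf] at h4
      rw [h1, h4, h6, sub_self]
    refine LinearMap.ext fun q => ?_
    obtain ⟨k, rfl⟩ := Submodule.Quotient.mk_surjective Z q
    rw [← hk, LinearMap.zero_apply]
    exact (hK k).1 k.2 y hyU
  have e3 := hI (↥K ⧸ Z) ρ' e1 e2
  have hq := Submodule.finrank_quotient_add_finrank Z
  have key : ∀ (g : ↥(alternatingGroup (Fin 6))) (N : ℕ), (N : F) ≠ 0 → g ^ N = 1 →
      ev (ρ g) 1 + finrank F ↥K = ev (ρ' g) 1 + finrank F ↥Z + finrank F M := by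
    intro g N hN hg
    have h1 : (ρ g) ^ N = 1 := by rw [← map_pow, hg, map_one]
    have h1K : (ρK g) ^ N = 1 := by rw [← map_pow, hg, map_one]
    have h4 := ev_sub_triv (T := ρ g) (T' := ρK g) hN h1 (K := K) (fun k hk => hKs g hk) (hKt g) (hρK g)
    have h6 := ev_quot (T := ρK g) (T' := ρ' g) hN h1K (Z := Z) (fun z hz => hZinv z hz g) (hρ' g)
    omega
  have ka := key a 3 (by exact_mod_cast h3) ha
  have kb := key b 3 (by exact_mod_cast h3) hb
  have kc := key c 5 (by exact_mod_cast h5) hc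
  have hdim' : finrank F ↥Φ + finrank F ↥K = finrank F M := hdim
  omega

end main

end Cfsg.Agent.R2.T1.N7.P2
end

-- part: R2/T1/N7/P2c
section
prune_inst 0x7404004000000000000210001040c400000200088000c10008040000a0400004284110a00212002218004008800811000000421000000a000400400100208083400223100000020006800880000000000000000000000000000000000004000000000
set_option linter.all false
open scoped Cfsg.Agent.FastGrp

-- part: R2/T1/N7/P2a
section
/-!
# S5929, `n = 7`, `p = 2`: `dim M^{Z₅} + 2 dim M^{A₆} ≤ dim M^{Z₃}` (helper27)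
-/

set_option autoImplicit false
set_option maxRecDepth 100000

namespace Cfsg.Agent.R2.T1.N7

open Equiv Equiv.Perm Module
open Cfsg.Agent.R2.T1.Odd
open Cfsg.Agent.R2.T1.Pat2 (pw ml evn Sg Sg_append Sg_ml Sg_even Sg_pw add_self2 eq_of_add2 w5 w3)
open Cfsg.Agent.H952.F4 (ev es)

universe u v

theorem cA : w5.length = 4 ∧ vl 7 w5 = true ∧ vl 7 w3 = true ∧ (pw 5 w5).all (vl 7) = true ∧
    (pw 3 w3).all (vl 7) = true := by decide

theorem cB : evn 7 (ml (pw 5 w5) (ml (pw 3 w3) (pw 5 w5)) ++ pw 5 w5) = true := by decide +kernel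

theorem cC : evn 7 (ml [w3] (pw 3 w3) ++ pw 3 w3) = true := by decide +kernel

theorem cD : evn 7 (ml (pw 5 w5) [w5] ++ pw 5 w5) = true := by decide +kernel

section mod
variable {F : Type u} [Field F] {W : Type v} [AddCommGroup W] [Module F W] {ρ : Representation F A7 W}

/-- elements which map `6` to a given point -/
noncomputable def sg (i : Fin 7) : A7 := (trans1 6 i).choose

theorem sg_6 (i : Fin 7) : (sg i : Perm (Fin 7)) 6 = i := (trans1 6 i).choose_spec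

theorem sg_ap {a : W} (ha : a ∈ inv ρ (Tg 7 gA6)) (g : A7) (i : Fin 7) :
    ρ g (ρ (sg i) a) = ρ (sg ((g : Perm (Fin 7)) i)) a := by
  rw [← Module.End.mul_apply, ← map_mul]
  exact mv ha (by rw [mul_ap, sg_6, sg_6])

theorem sg_zero (h0 : Representation.invariants ρ = ⊥) {a : W} (ha : a ∈ inv ρ (Tg 7 gA6)) {i j : Fin 7}
    (hij : i ≠ j) (h : ρ (sg i) a = ρ (sg j) a) : a = 0 :=
  zero_of h0 ha (by rw [sg_6, sg_6]; exact hij) h

theorem self2 (h2 : (2 : F) = 0) (x : W) : x + x = 0 := by rw [← two_smul F x, h2, zero_smul]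

theorem Sg_one (ρ : Representation F A7 W) (b : List (ℕ × ℕ)) : Sg ρ [b] = ρ (P 7 b) := by
  unfold Sg
  rw [List.map_cons, List.map_nil, List.sum_cons, List.sum_nil, add_zero]

theorem all_ml {A B : List (List (ℕ × ℕ))} (hA : A.all (vl 7) = true) (hB : B.all (vl 7) = true) :
    (ml A B).all (vl 7) = true := by
  rw [List.all_eq_true] at *
  intro x hx
  obtain ⟨u, hu, hx⟩ := List.mem_flatMap.1 hx
  obtain ⟨v, hv, rfl⟩ := List.mem_map.1 hx
  exact vl_append (hA u hu) (hB v hv)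

/-- the sum over the powers of the 5-cycle, of the 3-cycle -/
noncomputable def S5 (ρ : Representation F A7 W) : End F W := Sg ρ (pw 5 w5)
noncomputable def S3 (ρ : Representation F A7 W) : End F W := Sg ρ (pw 3 w3)

theorem S535 (h2 : (2 : F) = 0) : S5 ρ * (S3 ρ * S5 ρ) = S5 ρ := by
  have h5 := Sg_even h2 le_rfl ρ cB
  rw [Sg_append, Sg_ml le_rfl ρ cA.2.2.2.1 (all_ml cA.2.2.2.2 cA.2.2.2.1), Sg_ml le_rfl ρ cA.2.2.2.2 cA.2.2.2.1] at h5
  exact (eq_of_add2 h2 h5 :)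

theorem S3_fix (h2 : (2 : F) = 0) : ρ (P 7 w3) * S3 ρ = S3 ρ := by
  have h5 := Sg_even h2 le_rfl ρ cC
  rw [Sg_append, Sg_ml le_rfl ρ (by simp [cA.2.2.1]) cA.2.2.2.2, Sg_one] at h5
  exact eq_of_add2 h2 h5

theorem S5_fix (h2 : (2 : F) = 0) : S5 ρ * ρ (P 7 w5) = S5 ρ := by
  have h5 := Sg_even h2 le_rfl ρ cD
  rw [Sg_append, Sg_ml le_rfl ρ cA.2.2.2.1 (by simp [cA.2.1]), Sg_one] at h5
  exact eq_of_add2 h2 h5

theorem P_val {l : List (ℕ × ℕ)} (hl : vl 7 l = true) {i j : Fin 7} (h : ap l i.val = j.val) :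
    ((P 7 l : A7) : Perm (Fin 7)) i = j := Fin.ext (by rw [P_ap hl, h])

theorem S5_sg (h2 : (2 : F) = 0) {a : W} (ha : a ∈ inv ρ (Tg 7 gA6)) {i j : Fin 7} (h : ap w5 i.val = j.val) :
    S5 ρ (ρ (sg j) a) = S5 ρ (ρ (sg i) a) := by
  rw [← P_val cA.2.1 h, ← sg_ap ha, ← Module.End.mul_apply, S5_fix h2]

/-- the map `(v, u, u') ↦ e₃ v + v₃(u) + v₄(u) + v₀(u') + v₁(u') + v₂(u') + v₃(u')` -/
noncomputable def inj (ρ : Representation F A7 W) :
    (↥(Module.End.eigenspace (ρ (P 7 w5)) 1) × ↥(inv ρ (Tg 7 gA6))) × ↥(inv ρ (Tg 7 gA6)) →ₗ[F] W :=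
  (((S3 ρ).comp (Module.End.eigenspace (ρ (P 7 w5)) 1).subtype).coprod
    ((ρ (sg 3) + ρ (sg 4)).comp (inv ρ (Tg 7 gA6)).subtype)).coprod
    ((ρ (sg 0) + ρ (sg 1) + ρ (sg 2) + ρ (sg 3)).comp (inv ρ (Tg 7 gA6)).subtype)

theorem inj_apply (v : ↥(Module.End.eigenspace (ρ (P 7 w5)) 1)) (a b : ↥(inv ρ (Tg 7 gA6))) :
    inj ρ ((v, a), b) = S3 ρ v + (ρ (sg 3) a + ρ (sg 4) a) + (ρ (sg 0) b + ρ (sg 1) b + ρ (sg 2) b + ρ (sg 3) b) := rfl

/-- an element with `0 ↦ 5` which fixes `1, 2, 3, 4` -/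
def g05 : List (ℕ × ℕ) := [(0, 5), (5, 6)]

theorem inj_inj (h2 : (2 : F) = 0) (h0 : Representation.invariants ρ = ⊥) : Function.Injective (inj ρ) := by
  rw [← LinearMap.ker_eq_bot, LinearMap.ker_eq_bot']
  rintro ⟨⟨v, a⟩, b⟩ h
  rw [inj_apply] at h
  have hv : ρ (P 7 w5) (v : W) = v := by
    have h3 := Module.End.mem_eigenspace_iff.1 v.2
    rwa [one_smul] at h3
  have hv5 : S5 ρ (v : W) = v := Sg_pw h2 le_rfl ρ (by decide) cA.2.1 hv
  have h1 := congrArg (S5 ρ) h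
  have e34 : S5 ρ (ρ (sg 4) a.1) = S5 ρ (ρ (sg 3) a.1) := S5_sg h2 a.2 (by decide)
  have e01 : S5 ρ (ρ (sg 1) b.1) = S5 ρ (ρ (sg 0) b.1) := S5_sg h2 b.2 (by decide)
  have e12 : S5 ρ (ρ (sg 2) b.1) = S5 ρ (ρ (sg 1) b.1) := S5_sg h2 b.2 (by decide)
  have e23 : S5 ρ (ρ (sg 3) b.1) = S5 ρ (ρ (sg 2) b.1) := S5_sg h2 b.2 (by decide)
  have e535 : S5 ρ (S3 ρ (v : W)) = v := by
    have h3 := congrArg (fun T : End F W => T (v : W)) (S535 (ρ := ρ) h2)
    have h4 : S5 ρ (S3 ρ (S5 ρ (v : W))) = S5 ρ (v : W) := h3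
    rw [hv5] at h4
    exact h4
  rw [map_add, map_add, map_add, map_add, map_add, map_add, map_zero, e34, e23, e12, e01, e535, self2 h2,
    add_assoc, add_assoc, self2 h2, ← add_assoc] at h1
  have h3 : (v : W) = 0 := by simpa using h1
  rw [h3, map_zero, zero_add] at h
  have hg : vl 7 g05 = true := by decide
  have h5 := congrArg (ρ (P 7 g05)) h
  rw [map_zero, map_add, map_add, map_add, map_add, map_add, sg_ap a.2, sg_ap a.2, sg_ap b.2, sg_ap b.2, sg_ap b.2,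
    sg_ap b.2, P_val hg (i := 3) (j := 3) (by decide), P_val hg (i := 4) (j := 4) (by decide),
    P_val hg (i := 0) (j := 5) (by decide), P_val hg (i := 1) (j := 1) (by decide),
    P_val hg (i := 2) (j := 2) (by decide), ← h] at h5
  have h6 := add_right_cancel (add_right_cancel (add_right_cancel (add_left_cancel h5)))
  have hb : b.1 = 0 := sg_zero h0 b.2 (by decide) h6
  rw [hb, map_zero, map_zero, map_zero, map_zero, add_zero, add_zero, add_zero, add_zero] at h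
  have h7 : ρ (sg 3) a.1 = ρ (sg 4) a.1 := by
    have h8 := self2 h2 (ρ (sg 4) a.1)
    rw [← h8] at h
    exact add_right_cancel h
  have ha : a.1 = 0 := sg_zero h0 a.2 (by decide) h7
  have hv' : v = 0 := Subtype.ext h3
  have ha' : a = 0 := Subtype.ext ha
  have hb' : b = 0 := Subtype.ext hb
  rw [hv', ha', hb']
  rfl

/-- **`dim M^{Z₅} + 2 dim M^{A₆} ≤ dim M^{Z₃}`** -/
theorem five_two_le [FiniteDimensional F W] (h2 : (2 : F) = 0) (h0 : Representation.invariants ρ = ⊥) :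
    ev (ρ (P 7 w5)) 1 + 2 * finrank F ↥(inv ρ (Tg 7 gA6)) ≤ ev (ρ (P 7 w3)) 1 := by
  have h1 : ∀ x, inj ρ x ∈ Module.End.eigenspace (ρ (P 7 w3)) 1 := by
    rintro ⟨⟨v, a⟩, b⟩
    rw [inj_apply, Module.End.mem_eigenspace_iff, one_smul]
    have e3 : ρ (P 7 w3) (S3 ρ (v : W)) = S3 ρ (v : W) := congrArg (fun T : End F W => T (v : W)) (S3_fix (ρ := ρ) h2)
    rw [map_add, map_add, map_add, map_add, map_add, map_add, e3, sg_ap a.2, sg_ap a.2, sg_ap b.2, sg_ap b.2,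
      sg_ap b.2, sg_ap b.2, P_val cA.2.2.1 (i := 3) (j := 3) (by decide), P_val cA.2.2.1 (i := 4) (j := 4) (by decide),
      P_val cA.2.2.1 (i := 0) (j := 1) (by decide), P_val cA.2.2.1 (i := 1) (j := 2) (by decide),
      P_val cA.2.2.1 (i := 2) (j := 0) (by decide)]
    congr 1
    abel
  have h3 := LinearMap.finrank_le_finrank_of_injective (f := (inj ρ).codRestrict _ h1)
    (fun x y h => inj_inj h2 h0 (congrArg Subtype.val h))
  rw [Module.finrank_prod, Module.finrank_prod] at h3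
  unfold ev
  have h4 : finrank F ↥(Module.End.eigenspace (ρ (P 7 w5)) 1) + 2 * finrank F ↥(inv ρ (Tg 7 gA6)) ≤
      finrank F ↥(Module.End.eigenspace (ρ (P 7 w3)) 1) := by omega
  exact h4

end mod

end Cfsg.Agent.R2.T1.N7
end

-- part: R2/T1/N7/P2c
section
/-!
# S5929, `n = 7`, `p = 2`: the pattern (20, 20, 16) (helper27)

* `conj_rep`, `ev_three`, `ev_33`, `ev_five` : the classes of types 3, 3², 5 of `A₇`;
* `le_two` : `dim V^{A₆} ≤ 2` if `d₃ = 20`, `d₅ = 16`;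
* `three_le` : `3 ≤ dim V^{A₆}` if `d₃ = d₃₃ = 20`, `d₅ = 16`, from the inequality for `A₆`;
* `noP2` : contradiction.
-/

set_option autoImplicit false
set_option maxRecDepth 100000

namespace Cfsg.Agent.R2.T1.N7

open Equiv Equiv.Perm Module
open Cfsg Cfsg.Lie
open Cfsg.Agent.R2.T1.Odd
open Cfsg.Agent.R2.T1
open Cfsg.Agent.R2.T1.Pat2 (w5 w3)
open Cfsg.Agent.H943.E7V.Block (D1 rho)
open Cfsg.Agent.H952.F4 (ev MaxAlt)
open Cfsg.Agent.R2.T1.T3 (inc ct_inc inc_last exists_inc)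

universe u

/-- conjugacy in the alternating group -/
theorem conj_rep {r τ : Perm (Fin 7)} (hτ : sign τ = -1) (hc : τ * r * τ⁻¹ = r) {x : Perm (Fin 7)}
    (h : x.cycleType = r.cycleType) : ∃ σ, sign σ = 1 ∧ σ * r * σ⁻¹ = x := by
  obtain ⟨σ, hσ⟩ := isConj_iff.1 (isConj_iff_cycleType_eq.2 h.symm)
  rcases Int.units_eq_one_or (sign σ) with h1 | h1
  · exact ⟨σ, h1, hσ⟩
  · refine ⟨σ * τ, by rw [Perm.sign_mul, h1, hτ]; decide, ?_⟩
    rw [← hσ]
    calc σ * τ * r * (σ * τ)⁻¹ = σ * (τ * r * τ⁻¹) * σ⁻¹ := by group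
      _ = σ * r * σ⁻¹ := by rw [hc]

section
variable {F : Type u} [Field F] {W : Type*} [AddCommGroup W] [Module F W] (ρ : Representation F A7 W)

theorem ev_cj (g x : A7) : ev (ρ (g * x * g⁻¹)) 1 = ev (ρ x) 1 := by
  have h1 : ∀ (g : A7) (v : W), ρ g⁻¹ (ρ g v) = v := fun g v => by
    rw [← Module.End.mul_apply, ← map_mul, inv_mul_cancel, map_one, Module.End.one_apply]
  have h1' : ∀ (g : A7) (v : W), ρ g (ρ g⁻¹ v) = v := fun g v => by
    rw [← Module.End.mul_apply, ← map_mul, mul_inv_cancel, map_one, Module.End.one_apply]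
  let e : W ≃ₗ[F] W := LinearEquiv.ofLinearMap (ρ g) (ρ g⁻¹) (LinearMap.ext fun v => h1' g v) (LinearMap.ext fun v => h1 g v)
  have h2 : Module.End.eigenspace (ρ (g * x * g⁻¹)) 1 = (Module.End.eigenspace (ρ x) 1).map (e : W →ₗ[F] W) := by
    ext v
    rw [Module.End.mem_eigenspace_iff, one_smul, Submodule.mem_map]
    constructor
    · intro hv
      refine ⟨ρ g⁻¹ v, ?_, h1' g v⟩
      rw [Module.End.mem_eigenspace_iff, one_smul]
      rw [map_mul, map_mul, Module.End.mul_apply, Module.End.mul_apply] at hv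
      have h3 := congrArg (ρ g⁻¹) hv
      rw [h1] at h3
      exact h3
    · rintro ⟨w, hw, rfl⟩
      rw [Module.End.mem_eigenspace_iff, one_smul] at hw
      show ρ (g * x * g⁻¹) (ρ g w) = ρ g w
      rw [map_mul, map_mul, Module.End.mul_apply, Module.End.mul_apply, h1, hw]
  unfold ev
  rw [h2]
  exact LinearEquiv.finrank_map_eq e _

theorem ev_rep {r : A7} {τ : Perm (Fin 7)} (hτ : sign τ = -1) (hc : τ * (r : Perm (Fin 7)) * τ⁻¹ = r) {x : A7}
    (h : (x : Perm (Fin 7)).cycleType = (r : Perm (Fin 7)).cycleType) : ev (ρ x) 1 = ev (ρ r) 1 := by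
  obtain ⟨σ, h1, h2⟩ := conj_rep hτ hc h
  have h3 : x = (⟨σ, mem_alternatingGroup.2 h1⟩ : A7) * r * (⟨σ, mem_alternatingGroup.2 h1⟩ : A7)⁻¹ := Subtype.ext h2.symm
  rw [h3, ev_cj]

def r3 : A7 := ⟨swap (0 : Fin 7) 1 * swap (1 : Fin 7) 2, by rw [mem_alternatingGroup]; decide⟩
def r33 : A7 := ⟨swap (0 : Fin 7) 1 * swap (1 : Fin 7) 2 * (swap (3 : Fin 7) 4 * swap (4 : Fin 7) 5), by rw [mem_alternatingGroup]; decide⟩
def r5 : A7 := ⟨swap (0 : Fin 7) 1 * swap (1 : Fin 7) 2 * swap (2 : Fin 7) 3 * swap (3 : Fin 7) 4, by rw [mem_alternatingGroup]; decide⟩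

theorem ct_r3 : (r3 : Perm (Fin 7)).cycleType = {3} := by decide +kernel
theorem ct_r33 : (r33 : Perm (Fin 7)).cycleType = {3, 3} := by decide +kernel
theorem ct_r5 : (r5 : Perm (Fin 7)).cycleType = {5} := by decide +kernel

theorem ev_three {x y : A7} (hx : (x : Perm (Fin 7)).cycleType = {3}) (hy : (y : Perm (Fin 7)).cycleType = {3}) :
    ev (ρ x) 1 = ev (ρ y) 1 := by
  have e : ∀ x : A7, (x : Perm (Fin 7)).cycleType = {3} → ev (ρ x) 1 = ev (ρ r3) 1 := fun x hx =>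
    ev_rep ρ (r := r3) (τ := swap (3 : Fin 7) 4) (sign_swap (by decide)) (by decide +kernel) (hx.trans ct_r3.symm)
  rw [e x hx, e y hy]

theorem ev_33 {x y : A7} (hx : (x : Perm (Fin 7)).cycleType = {3, 3}) (hy : (y : Perm (Fin 7)).cycleType = {3, 3}) :
    ev (ρ x) 1 = ev (ρ y) 1 := by
  have e : ∀ x : A7, (x : Perm (Fin 7)).cycleType = {3, 3} → ev (ρ x) 1 = ev (ρ r33) 1 := fun x hx =>
    ev_rep ρ (r := r33) (τ := swap (0 : Fin 7) 3 * swap (1 : Fin 7) 4 * swap (2 : Fin 7) 5) (by decide +kernel) (by decide +kernel) (hx.trans ct_r33.symm)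
  rw [e x hx, e y hy]

theorem ev_five {x y : A7} (hx : (x : Perm (Fin 7)).cycleType = {5}) (hy : (y : Perm (Fin 7)).cycleType = {5}) :
    ev (ρ x) 1 = ev (ρ y) 1 := by
  have e : ∀ x : A7, (x : Perm (Fin 7)).cycleType = {5} → ev (ρ x) 1 = ev (ρ r5) 1 := fun x hx =>
    ev_rep ρ (r := r5) (τ := swap (5 : Fin 7) 6) (sign_swap (by decide)) (by decide +kernel) (hx.trans ct_r5.symm)
  rw [e x hx, e y hy]

theorem P_w5 : P 7 w5 = r5 := by
  apply Subtype.ext
  rw [coe_P le_rfl cA.2.1]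
  decide +kernel

theorem P_w3 : P 7 w3 = r3 := by
  apply Subtype.ext
  rw [coe_P le_rfl cA.2.2.1]
  decide +kernel

/-- the fixed vectors of `A₆` -/
theorem inv_inc : Representation.invariants (MonoidHom.comp ρ (inc : T3.A 6 →* T3.A 7)) = inv ρ (Tg 7 gA6) := by
  ext v
  constructor
  · intro h g hg
    obtain ⟨g', rfl⟩ := exists_inc (n := 6) g (mem_A6.1 hg)
    exact h g'
  · intro h g
    exact h _ (mem_A6.2 (inc_last g))

/-- **at most 2** -/
theorem le_two [FiniteDimensional F W] (h2 : (2 : F) = 0) (h0 : Representation.invariants ρ = ⊥)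
    (h3 : ∀ x : A7, (x : Perm (Fin 7)).cycleType = {3} → ev (ρ x) 1 = 20)
    (h5 : ∀ x : A7, (x : Perm (Fin 7)).cycleType = {5} → ev (ρ x) 1 = 16) :
    finrank F ↥(inv ρ (Tg 7 gA6)) ≤ 2 := by
  have h1 := five_two_le (ρ := ρ) h2 h0
  rw [P_w5, P_w3, h3 _ ct_r3, h5 _ ct_r5] at h1
  omega

end

theorem gen3 (K : Subgroup ↥(alternatingGroup (Fin 6))) (h : ∀ g, g ^ 3 = 1 → g ∈ K) : K = ⊤ := by
  have h1 : alternatingGroup (Fin 6) ≤ K.map (alternatingGroup (Fin 6)).subtype := by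
    refine le_trans (le_of_eq closure_three_cycles_eq_alternating.symm) ?_
    rw [Subgroup.closure_le]
    intro σ hσ
    have hs : sign σ = 1 := hσ.sign
    refine ⟨⟨σ, mem_alternatingGroup.2 hs⟩, h _ (Subtype.ext ?_), rfl⟩
    show σ ^ 3 = 1
    rw [← hσ.orderOf, pow_orderOf_eq_one]
  rw [eq_top_iff]
  intro g _
  obtain ⟨g', hg', h2⟩ := h1 g.2
  have h3 : g' = g := Subtype.ext h2
  rw [← h3]
  exact hg'

section
variable {F : Type u} [Field F] {H : Subgroup ↥(chevE7.group F)} {φ : A7 →* ↥(chevE7.group F)} {ψ : A7 →* Gh F}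

/-- **at least 3** -/
theorem three_le (h2 : (2 : F) = 0) {a b : ↥(alternatingGroup (Fin 6))}
    (ha : (a : Perm (Fin 6)).cycleType = {3}) (hb : (b : Perm (Fin 6)).cycleType = {3, 3}) (hI : N6D.Ineq F a b N6D.z5)
    (h3 : ∀ x : A7, (x : Perm (Fin 7)).cycleType = {3} → ev (V F (ψ x)) 1 = 20)
    (h33 : ∀ x : A7, (x : Perm (Fin 7)).cycleType = {3, 3} → ev (V F (ψ x)) 1 = 20)
    (h5 : ∀ x : A7, (x : Perm (Fin 7)).cycleType = {5} → ev (V F (ψ x)) 1 = 16) :
    3 ≤ finrank F ↥(inv (MonoidHom.comp (V F) ψ : Representation F A7 (D1 → F)) (Tg 7 gA6)) := by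
  have hz : (N6D.z5 : Perm (Fin 6)).cycleType = {5} := by decide +kernel
  have hpow : ∀ {g : ↥(alternatingGroup (Fin 6))}, ∀ N : ℕ, (∀ k ∈ (g : Perm (Fin 6)).cycleType, k ∣ N) → g ^ N = 1 := by
    intro g N hN
    apply Subtype.ext
    show (g : Perm (Fin 6)) ^ N = 1
    rw [← orderOf_dvd_iff_pow_eq_one, ← lcm_cycleType, Multiset.lcm_dvd]
    exact hN
  have h1 := P2.ineq_fix h2 (a := a) (b := b) (c := N6D.z5) (hpow 3 (by rw [ha]; simp)) (hpow 3 (by rw [hb]; simp))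
    (hpow 5 (by rw [hz]; simp)) hI gen3
    (MonoidHom.comp (MonoidHom.comp (V F) ψ : Representation F A7 (D1 → F)) (inc : T3.A 6 →* T3.A 7)) (sf F)
    (fun y h => sf_nondeg h) (fun x y h => by rw [sf_swap, h, neg_zero]) (fun g x y => sf_V _ x y)
  rw [inv_inc, finrank_V] at h1
  have ea : ev (V F (ψ (inc a))) 1 = 20 := h3 _ ((ct_inc a).trans ha)
  have eb : ev (V F (ψ (inc b))) 1 = 20 := h33 _ ((ct_inc b).trans hb)
  have ec : ev (V F (ψ (inc N6D.z5))) 1 = 16 := h5 _ ((ct_inc _).trans hz)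
  have h4 : 4 * (ev (V F (ψ (inc a))) 1 + ev (V F (ψ (inc b))) 1) + 12 * ev (V F (ψ (inc N6D.z5))) 1 ≤
      5 * 56 + 30 * finrank F ↥(inv (MonoidHom.comp (V F) ψ : Representation F A7 (D1 → F)) (Tg 7 gA6)) := h1
  rw [ea, eb, ec] at h4
  omega

/-- **the pattern (20, 20, 16) is impossible** -/
theorem noP2 [Finite F] (hM : MaxAlt H 7 φ) (hL : Lift φ ψ) (h2 : (2 : F) = 0)
    (h3 : ∀ x : A7, (x : Perm (Fin 7)).cycleType = {3} → ev (V F (ψ x)) 1 = 20)
    (h5 : ∀ x : A7, (x : Perm (Fin 7)).cycleType = {5} → ev (V F (ψ x)) 1 = 16)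
    (h6 : 3 ≤ finrank F ↥(inv (MonoidHom.comp (V F) ψ : Representation F A7 (D1 → F)) (Tg 7 gA6))) : False := by
  have h0 := no_fixed hM (by norm_num) (by norm_num) hL
  have h1 := le_two (MonoidHom.comp (V F) ψ : Representation F A7 (D1 → F)) h2 h0 h3 h5
  omega

end

end Cfsg.Agent.R2.T1.N7
end
end

-- part: R2/T1/N7/Two
section
prune_inst 0x10074041022000000000004120010408400000200488000000002040240804000000800102000120022880040000008100000004040000004000400000100208081440222100008020000800000000000000000000000000000000000000000000000000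
set_option linter.all false
open scoped Cfsg.Agent.FastGrp

-- part: R2/T1/N7T/T2
section
/-!
# S5929, `n = 7`, `p = 2`: 3-cycles with 32 fixed weights, every finite field (helper20)

* `Bz` : the bilinear form with `Bz z y y = Mu F y z`;
* `exists_eqMu` : a vector with equal values of the moment map, in a space of dimension at least 3 (Chevalley-Warning);
* `t2_false` : `dim V^{A6} ≥ 5` is impossible.
-/

set_option autoImplicit false
set_option maxRecDepth 100000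

namespace Cfsg.Agent.R2.T1.N7T

open Cfsg Cfsg.Lie Module Equiv Equiv.Perm
open Cfsg.Agent.H943.E7V.Block (D1 rho)
open Cfsg.Agent.H952.F4 (ev es MaxAlt)
open Cfsg.Agent.R2.T1 Cfsg.Agent.R2.T1.Mu2 Cfsg.Agent.R2.T1.T2p Cfsg.Agent.R2.PX
open Cfsg.Agent.R2.T1.Odd
open Cfsg.Agent.R2.T1.N7 (A7 gA6 mem_A6 mul_ap trans1 zero_of)

universe u v

section bil
variable {F : Type u} [Field F]

/-- the bilinear form of the moment map -/
noncomputable def Bz (z : chevE7.Idx → F) : LinearMap.BilinForm F (D1 → F) :=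
  Matrix.toBilin' (Matrix.of fun a b => if a < b then (JM F * del F z) a b else 0)

theorem Bz_self (z : chevE7.Idx → F) (y : D1 → F) : Bz z y y = Mu F y z := by
  unfold Bz
  rw [Matrix.toBilin'_apply, Mu_apply, hq]
  refine Finset.sum_congr rfl fun a _ => Finset.sum_congr rfl fun b _ => ?_
  rw [Matrix.of_apply]
  split_ifs <;> ring

theorem Mu_tr (g : Gh F) (w : D1 → F) (z : chevE7.Idx → F) : Mu F (V F g w) z = Mu F w (L F g⁻¹ z) := by
  rw [Mu_V', LinearMap.comp_apply]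

end bil

section key
variable {F : Type u} [Field F] {M : Type v} [AddCommGroup M] [Module F M] [FiniteDimensional F M]

/-- **a vector with equal values of the moment map** -/
theorem exists_eqMu [Finite F] (h2 : (2 : F) = 0) {x t : Gh F} (hx : x ^ 3 = 1) (h32 : ev (V F x) 1 = 32)
    (P : M →ₗ[F] (D1 → F)) (hP0 : ∀ u, P u + V F x (P u) + V F x (V F x (P u)) = 0)
    (ht2 : t * t = 1) (ht : ∀ u, V F t (P u) = P u) (htx : t * x = x * x * t) (h3 : 3 ≤ finrank F M) :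
    ∃ u : M, u ≠ 0 ∧ Mu F (P u) = Mu F (V F x (P u)) := by
  obtain ⟨ω, l, hω, hl⟩ := line_F h2 hx h32
  choose q hq using fun u : M => hl (P u) (hP0 u)
  have hti : t⁻¹ = t := inv_eq_of_mul_eq_one_left ht2
  have h2K : (2 : AlgebraicClosure F) = 0 := by
    have h := congrArg (algebraMap F (AlgebraicClosure F)) h2
    rwa [map_ofNat, map_zero] at h
  -- the action of `t`
  have t1 : ∀ u, V F t (V F x (P u)) = V F x (V F x (P u)) := by
    intro u
    rw [← V_mul, htx, V_mul, V_mul, ht]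
  have t2 : ∀ u, V F t (V F x (V F x (P u))) = V F x (P u) := by
    intro u
    rw [← t1, ← V_mul, ht2, V_one]
  have m0 : ∀ u z, Mu F (P u) (L F t z) = Mu F (P u) z := by
    intro u z
    have h := Mu_tr t (P u) z
    rw [hti, ht] at h
    exact h.symm
  have m1 : ∀ u z, Mu F (V F x (P u)) (L F t z) = Mu F (V F x (V F x (P u))) z := by
    intro u z
    have h := Mu_tr t (V F x (P u)) z
    rw [hti, t1] at h
    exact h.symm
  have m2 : ∀ u z, Mu F (V F x (V F x (P u))) (L F t z) = Mu F (V F x (P u)) z := by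
    intro u z
    have h := Mu_tr t (V F x (V F x (P u))) z
    rw [hti, t2] at h
    exact h.symm
  -- it is enough to find a vector with zero combination
  suffices hsuff : ∃ u : M, u ≠ 0 ∧ ∀ z, q u * l z = 0 by
    obtain ⟨u, hu0, hu⟩ := hsuff
    refine ⟨u, hu0, LinearMap.ext fun z => ?_⟩
    have e1 := hq u z
    have e2 := hq u (L F t z)
    rw [hu] at e1
    rw [hu, m0, m1, m2] at e2
    exact phi_eq h2K (algebraMap F (AlgebraicClosure F)) hω e1 e2
  by_cases hall : ∀ u z, q u * l z = 0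
  · have : Nontrivial M := Module.nontrivial_of_finrank_pos (R := F) (by omega)
    obtain ⟨u, hu⟩ := exists_ne (0 : M)
    exact ⟨u, hu, hall u⟩
  push Not at hall
  obtain ⟨u1, z1, h11⟩ := hall
  have hq1 : q u1 ≠ 0 := left_ne_zero_of_mul h11
  -- a good point
  obtain ⟨z0, hz0, hbc⟩ : ∃ z0, l z0 ≠ 0 ∧ ∀ u, Mu F (V F x (P u)) z0 = Mu F (V F x (V F x (P u))) z0 := by
    by_cases hE : ∀ u z, Mu F (V F x (P u)) z = Mu F (V F x (V F x (P u))) z
    · exact ⟨z1, right_ne_zero_of_mul h11, fun u => hE u z1⟩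
    push Not at hE
    obtain ⟨u2, z2, h22⟩ := hE
    refine ⟨z2 + L F t z2, ?_, ?_⟩
    · intro hl0
      apply h22
      have a1 := hq u1 z2
      have a2 := hq u1 (L F t z2)
      have a3 := hq u1 (z2 + L F t z2)
      rw [hl0, mul_zero, map_add, map_add, map_add, map_add, map_add, map_add] at a3
      have a4 : q u1 * l z2 + q u1 * l (L F t z2) = 0 := by
        rw [← a1, ← a2, ← a3]; ring
      have a5 : l (L F t z2) = l z2 := by
        have a6 : q u1 * (l (L F t z2) - l z2) = 0 := by linear_combination a4 - (q u1 * l z2) * h2K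
        exact sub_eq_zero.1 ((mul_eq_zero.1 a6).resolve_left hq1)
      have b1 := hq u2 z2
      have b2 := hq u2 (L F t z2)
      rw [a5, ← b1, m0, m1, m2] at b2
      have hω1 : ω - ω ^ 2 ≠ 0 := by
        intro h
        have h4 : ω * (1 - ω) = 0 := by linear_combination h
        rcases mul_eq_zero.1 h4 with h5 | h5
        · rw [h5] at hω
          norm_num at hω
        · have h6 : ω = 1 := (sub_eq_zero.1 h5).symm
          rw [h6] at hω
          have h7 : (1 : AlgebraicClosure F) = 0 := by linear_combination hω - h2K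
          exact one_ne_zero h7
      have b3 : (ω - ω ^ 2) * (algebraMap F (AlgebraicClosure F) (Mu F (V F x (V F x (P u2))) z2) -
          algebraMap F (AlgebraicClosure F) (Mu F (V F x (P u2)) z2)) = 0 := by linear_combination b2
      have b4 := sub_eq_zero.1 ((mul_eq_zero.1 b3).resolve_left hω1)
      exact ((algebraMap F (AlgebraicClosure F)).injective b4).symm
    · intro u
      rw [map_add, map_add, m1, m2]
      exact add_comm _ _
  -- the quadratic equation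
  let B : LinearMap.BilinForm F M := (Bz z0).compl₁₂ P P + (Bz z0).compl₁₂ ((V F x).comp P) ((V F x).comp P)
  obtain ⟨u, hu0, hu⟩ := Cfsg.Agent.H954.CWarn.exists_common_zero (κ := Unit) (fun _ => B) (by
    rw [Fintype.card_unit]; omega)
  have hu' : Mu F (P u) z0 + Mu F (V F x (P u)) z0 = 0 := by
    have h := hu ()
    have e : B u u = Bz z0 (P u) (P u) + Bz z0 (V F x (P u)) (V F x (P u)) := rfl
    rw [e, Bz_self, Bz_self] at h
    exact h
  refine ⟨u, hu0, ?_⟩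
  have h := hq u z0
  have h4 : q u * l z0 = 0 := by
    rw [← h, ← hbc]
    have h5 := congrArg (algebraMap F (AlgebraicClosure F)) hu'
    rw [map_add, map_zero] at h5
    linear_combination h5 + (algebraMap F (AlgebraicClosure F) (Mu F (V F x (P u)) z0)) * hω -
      (algebraMap F (AlgebraicClosure F) (Mu F (V F x (P u)) z0)) * h2K
  have h6 : q u = 0 := (mul_eq_zero.1 h4).resolve_right hz0
  intro z
  rw [h6, zero_mul]

end key

section dim
variable {F : Type u} [Field F] {M : Type v} [AddCommGroup M] [Module F M] [FiniteDimensional F M]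

/-- the fixed space of an involution -/
theorem fix_dim (h2 : (2 : F) = 0) (T : M →ₗ[F] M) (hT : ∀ v, T (T v) = v) (U : Submodule F M) (hU : ∀ u ∈ U, T u ∈ U)
    (h5 : 5 ≤ finrank F ↥U) : 3 ≤ finrank F ↥(U ⊓ LinearMap.ker (T - LinearMap.id)) := by
  have hd : ∀ v : M, v + v = 0 := fun v => by rw [← two_smul F v, h2, zero_smul]
  let N : ↥U →ₗ[F] M := (T - LinearMap.id).comp U.subtype
  have h1 : LinearMap.range N ≤ U ⊓ LinearMap.ker (T - LinearMap.id) := by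
    rintro _ ⟨u, rfl⟩
    have e : N u = T u.1 - u.1 := rfl
    refine ⟨?_, ?_⟩
    · rw [e]; exact U.sub_mem (hU _ u.2) u.2
    · rw [SetLike.mem_coe, LinearMap.mem_ker, e, LinearMap.sub_apply, LinearMap.id_apply, map_sub, hT]
      have h3 : u.1 - T u.1 - (T u.1 - u.1) = (u.1 + u.1) - (T u.1 + T u.1) := by abel
      rw [h3, hd, hd, sub_zero]
  have h3 : (LinearMap.ker N).map U.subtype ≤ U ⊓ LinearMap.ker (T - LinearMap.id) := by
    rintro _ ⟨u, hu, rfl⟩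
    exact ⟨u.2, hu⟩
  have h4 := LinearMap.finrank_range_add_finrank_ker N
  have h6 := Submodule.finrank_mono h1
  have h7 := Submodule.finrank_mono h3
  rw [Submodule.finrank_map_subtype_eq] at h7
  omega

end dim

/-! ### the elements -/

/-- `0 → 1 → 2 → 0` -/
def cx : A7 := ⟨swap (0 : Fin 7) 1 * swap (1 : Fin 7) 2, by rw [mem_alternatingGroup]; decide⟩

/-- `(01)(34)` -/
def ct : A7 := ⟨swap (0 : Fin 7) 1 * swap (3 : Fin 7) 4, by rw [mem_alternatingGroup]; decide⟩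

theorem cx_type : (cx : Perm (Fin 7)).cycleType = {3} := by decide +kernel
theorem cx0 : (cx : Perm (Fin 7)) 0 = 1 := by decide
theorem cx1 : (cx : Perm (Fin 7)) 1 = 2 := by decide
theorem cx2 : (cx : Perm (Fin 7)) 2 = 0 := by decide
theorem ct0 : (ct : Perm (Fin 7)) 0 = 1 := by decide
theorem ct1 : (ct : Perm (Fin 7)) 1 = 0 := by decide
theorem cx_pow : cx ^ 3 = 1 := by decide +kernel
theorem ct_sq : ct * ct = 1 := by decide +kernel
theorem ct_cx : ct * cx = cx * cx * ct := by decide +kernel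

section main
variable {F : Type u} [Field F] {H : Subgroup ↥(chevE7.group F)} {φ : A7 →* ↥(chevE7.group F)} {ψ : A7 →* Gh F}

/-- **3-cycles with 32 fixed weights** -/
theorem t2_false [Finite F] (h2 : (2 : F) = 0) (hM : MaxAlt H 7 φ) (hψ : Lift φ ψ)
    (h32 : ∀ a : A7, (a : Perm (Fin 7)).cycleType = {3} → ev (V F (ψ a)) 1 = 32)
    (h0 : Representation.invariants (MonoidHom.comp (V F) ψ : Representation F A7 (D1 → F)) = ⊥)
    (h5 : 5 ≤ finrank F ↥(inv (MonoidHom.comp (V F) ψ : Representation F A7 (D1 → F)) (Tg 7 gA6))) : False := by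
  let ρ : Representation F A7 (D1 → F) := MonoidHom.comp (V F) ψ
  change Representation.invariants ρ = ⊥ at h0
  set U : Submodule F (D1 → F) := inv ρ (Tg 7 gA6) with hU
  change 5 ≤ finrank F ↥U at h5
  have hρ : ∀ g v, ρ g v = V F (ψ g) v := fun g v => rfl
  obtain ⟨a0, ha0⟩ := trans1 6 0
  obtain ⟨a1, ha1⟩ := trans1 6 1
  obtain ⟨a2, ha2⟩ := trans1 6 2
  have key : ∀ u ∈ U, ∀ (g a b : A7), (g : Perm (Fin 7)) ((a : Perm (Fin 7)) 6) = (b : Perm (Fin 7)) 6 →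
      V F (ψ g) (V F (ψ a) u) = V F (ψ b) u := by
    intro u hu g a b h
    have h1 := Cfsg.Agent.R2.T1.N7.mv (ρ := ρ) hu (g := g * a) (g' := b) (by rw [mul_ap, h])
    rw [hρ, hρ, map_mul, V_mul] at h1
    exact h1
  let P0 : (D1 → F) →ₗ[F] (D1 → F) := V F (ψ a0) + V F (ψ a1)
  have hP : ∀ u, P0 u = V F (ψ a0) u + V F (ψ a1) u := fun u => rfl
  have px : ∀ u ∈ U, V F (ψ cx) (P0 u) = V F (ψ a1) u + V F (ψ a2) u := by
    intro u hu
    rw [hP, map_add, key u hu cx a0 a1 (by rw [ha0, ha1, cx0]), key u hu cx a1 a2 (by rw [ha1, ha2, cx1])]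
  have pxx : ∀ u ∈ U, V F (ψ cx) (V F (ψ cx) (P0 u)) = V F (ψ a2) u + V F (ψ a0) u := by
    intro u hu
    rw [px u hu, map_add, key u hu cx a1 a2 (by rw [ha1, ha2, cx1]), key u hu cx a2 a0 (by rw [ha2, ha0, cx2])]
  have pt : ∀ u ∈ U, V F (ψ ct) (P0 u) = P0 u := by
    intro u hu
    rw [hP, map_add, key u hu ct a0 a1 (by rw [ha0, ha1, ct0]), key u hu ct a1 a0 (by rw [ha1, ha0, ct1]), add_comm]
  have hd : ∀ v : D1 → F, v + v = 0 := add_self_zero h2
  have p0 : ∀ u ∈ U, P0 u + V F (ψ cx) (P0 u) + V F (ψ cx) (V F (ψ cx) (P0 u)) = 0 := by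
    intro u hu
    rw [pxx u hu, px u hu, hP]
    have e : V F (ψ a0) u + V F (ψ a1) u + (V F (ψ a1) u + V F (ψ a2) u) + (V F (ψ a2) u + V F (ψ a0) u) =
        (V F (ψ a0) u + V F (ψ a0) u) + (V F (ψ a1) u + V F (ψ a1) u) + (V F (ψ a2) u + V F (ψ a2) u) := by abel
    rw [e, hd, hd, zero_add, zero_add, hd]
  have hne : ∀ u ∈ U, P0 u = 0 → u = 0 := by
    intro u hu h
    refine zero_of (ρ := ρ) h0 hu (s := a0) (s' := a1) (by rw [ha0, ha1]; decide) ?_
    rw [hρ, hρ]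
    have h1 : V F (ψ a0) u = - V F (ψ a1) u := eq_neg_of_add_eq_zero_left h
    rw [h1]
    exact neg_eq_of_add_eq_zero_left (hd _)
  have h01 : (0 : Fin 7) ≠ 1 := by decide
  have h02 : (0 : Fin 7) ≠ 2 := by decide
  have h12 : (1 : Fin 7) ≠ 2 := by decide
  -- the submodule
  obtain ⟨M, hMU, hM3, hMH⟩ : ∃ M : Submodule F (D1 → F), M ≤ U ∧ 3 ≤ finrank F ↥M ∧
      ∀ u ∈ M, ∀ g : Gh F, ad F g ∈ H → ∃ π, V F g (P0 u) = V F (ψ π) (P0 u) := by
    rcases exists_t0 h2 le_rfl hM hψ h01 with h | ⟨t0, ht2, ht, hgen⟩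
    · refine ⟨U, le_rfl, by omega, fun u _ g hg => ?_⟩
      obtain ⟨π, rfl⟩ := h g hg
      exact ⟨π, rfl⟩
    · have hcs : ∀ a : A7, swap (0 : Fin 7) 1 * (a : Perm (Fin 7)) * swap (0 : Fin 7) 1 ∈ alternatingGroup (Fin 7) := by
        intro a
        rw [mem_alternatingGroup, Perm.sign_mul, Perm.sign_mul, mem_alternatingGroup.1 a.2, mul_one, sign_swap h01]
        decide
      have hss : ∀ a : Perm (Fin 7), swap (0 : Fin 7) 1 * (swap (0 : Fin 7) 1 * a * swap (0 : Fin 7) 1) * swap (0 : Fin 7) 1 = a := by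
        intro a
        have h4 : (swap (0 : Fin 7) 1 : Perm (Fin 7)) * swap (0 : Fin 7) 1 = 1 := swap_mul_self _ _
        calc _ = (swap (0 : Fin 7) 1 * swap (0 : Fin 7) 1) * a * (swap (0 : Fin 7) 1 * swap (0 : Fin 7) 1) := by simp only [mul_assoc]
          _ = a := by rw [h4, one_mul, mul_one]
      have h6s : swap (0 : Fin 7) 1 6 = 6 := by decide
      have hact : ∀ a b : A7, (b : Perm (Fin 7)) = swap (0 : Fin 7) 1 * (a : Perm (Fin 7)) * swap (0 : Fin 7) 1 → ∀ w,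
          V F (ψ b) (V F t0 w) = V F t0 (V F (ψ a) w) := by
        intro a b hb w
        rw [← ht a b hb, V_mul, V_mul, ← V_mul t0⁻¹, inv_mul_cancel, V_one]
      have hT : ∀ v, V F t0 (V F t0 v) = v := by
        intro v
        rw [← V_mul, ht2, V_one]
      have hUst : ∀ u ∈ U, V F t0 u ∈ U := by
        intro u hu g hg
        rw [mem_A6] at hg
        have h7 : V F (ψ g) (V F t0 u) = V F t0 (V F (ψ ⟨_, hcs g⟩) u) := hact ⟨_, hcs g⟩ g (hss _).symm u
        have h8 : V F (ψ ⟨_, hcs g⟩) u = u := by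
          refine hu ⟨_, hcs g⟩ (mem_A6.2 ?_)
          show swap (0 : Fin 7) 1 ((g : Perm (Fin 7)) (swap (0 : Fin 7) 1 6)) = 6
          rw [h6s, hg, h6s]
        rw [hρ, h7, h8]
      refine ⟨U ⊓ LinearMap.ker (V F t0 - LinearMap.id), inf_le_left, fix_dim h2 (V F t0) hT U hUst h5, ?_⟩
      rintro u ⟨hu, hut⟩ g hg
      have hut' : V F t0 u = u := by
        have h7 : V F t0 u - u = 0 := hut
        exact sub_eq_zero.1 h7
      have hPt : V F t0 (P0 u) = P0 u := by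
        have e0 : V F t0 (V F (ψ a0) u) = V F (ψ a1) u := by
          rw [← hact a0 ⟨_, hcs a0⟩ rfl, hut']
          refine Cfsg.Agent.R2.T1.N7.mv (ρ := ρ) hu ?_
          show swap (0 : Fin 7) 1 ((a0 : Perm (Fin 7)) (swap (0 : Fin 7) 1 6)) = (a1 : Perm (Fin 7)) 6
          rw [h6s, ha0, ha1, swap_apply_left]
        have e1 : V F t0 (V F (ψ a1) u) = V F (ψ a0) u := by
          rw [← e0, hT]
        rw [hP, map_add, e0, e1, add_comm]
      obtain ⟨π, h9 | h9⟩ := hgen g hg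
      · exact ⟨π, by rw [h9]⟩
      · exact ⟨π, by rw [h9, V_mul, hPt]⟩
  -- the vector
  obtain ⟨⟨u, huM⟩, hu0, heq⟩ := exists_eqMu h2 (x := ψ cx) (t := ψ ct) (by rw [← map_pow, cx_pow, map_one])
    (h32 _ cx_type) (P0.comp M.subtype) (fun u => p0 _ (hMU u.2)) (by rw [← map_mul, ct_sq, map_one])
    (fun u => pt _ (hMU u.2)) (by rw [← map_mul, ct_cx, map_mul, map_mul]) hM3
  have huU : u ∈ U := hMU huM
  change Mu F (P0 u) = Mu F (V F (ψ cx) (P0 u)) at heq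
  have hu0' : u ≠ 0 := fun h => hu0 (Subtype.ext h)
  have hwUS : P0 u ∈ US ψ (0 : Fin 7) 1 := by
    intro a h6 h7
    rw [hP, map_add, key u huU a a0 a0 (by rw [ha0, h6]), key u huU a a1 a1 (by rw [ha1, h7])]
  have w1 : V F (ψ cx) (P0 u) = W ψ 0 1 (P0 u) 1 2 := W_eq hwUS cx0 cx1
  have w2 : V F (ψ cx) (V F (ψ cx) (P0 u)) = W ψ 0 1 (P0 u) 2 0 := by
    rw [← V_mul, ← map_mul]
    refine W_eq hwUS ?_ ?_
    · rw [mul_ap, cx0, cx1]
    · rw [mul_ap, cx1, cx2]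
  have w0 : W ψ 0 1 (P0 u) 0 1 = P0 u := W_self hwUS
  have hc : Nat.card ↥H ≤ 5040 := by
    have h := hM.card
    rw [if_neg (by norm_num)] at h
    exact h
  have hq := two_le_card (F := F)
  refine final h2 le_rfl hM hψ h01 ?_ ?_ hwUS (q := 2) h02 h12 ?_ (fun h => hu0' (hne u huU h)) (hMH u huM) ?_
  · calc 4 * Nat.card ↥H ≤ 4 * 5040 := Nat.mul_le_mul_left _ hc
      _ < 2 ^ 76 := by norm_num
      _ ≤ Nat.card F ^ 76 := Nat.pow_le_pow_left hq _
  · intro S hS hS0 hs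
    refine ts hM.coatom ?_ hS hS0 hs
    calc Nat.card ↥H ≤ 5040 := hc
      _ < 2 ^ 27 := by norm_num
      _ ≤ Nat.card F ^ 27 := Nat.pow_le_pow_left hq _
  · rw [w0, ← w1, ← w2]
    exact p0 u huU
  · rw [w0, ← w1]
    exact heq

end main

end Cfsg.Agent.R2.T1.N7T
end

-- part: R2/T1/N7/Two
section
/-!
# S5929, `n = 7`, lift, `p = 2` (helper27)

`sev2`: `d₃, d₃₃ ∈ {20, 32}`, `d₅ = 16`; `(∗, 32)` is excluded by Scott `(3², 5, 5)`, `(20, 20)` by `noP2`; for `(32, 20)` Scott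
`(3, 3², 5)` for `A₆` gives `dim V^{A₆} ≥ 6`, and `t2_false` (helper20) is the contradiction.
-/

set_option autoImplicit false
set_option maxRecDepth 100000

namespace Cfsg.Agent.R2.T1.N7

open Equiv Equiv.Perm Module
open Cfsg Cfsg.Lie
open Cfsg.Agent.R2.T1.Odd
open Cfsg.Agent.R2.T1
open Cfsg.Agent.R2.T1.Pat2 (w5 w3 w33)
open Cfsg.Agent.H943.E7V.Block (D1 rho)
open Cfsg.Agent.H952.F4 (ev MaxAlt GenT)
open Cfsg.Agent.R2.T1.T3 (inc ct_inc)

universe u

theorem gen7d : GenT 7 {3, 3} {5} {5} :=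
  Cfsg.Agent.H952.F4.Gen.genT_of (n := 5) (c[(0 : Fin 7), 2, 4] * c[(1 : Fin 7), 6, 5]) (c[(0 : Fin 7), 3, 6, 1, 2]) (by decide +kernel)
    (by decide +kernel)
    ![[], [], [2, 0, 3, 1, 3, 0], [3, 0, 3, 0], [0, 2, 1, 3, 3, 0], [3, 1, 3, 0, 2, 0], [3, 3, 1, 2, 1]]
    (by decide +kernel) (by decide +kernel) (by decide +kernel) (by decide +kernel)

theorem ct_w33 : ((P 7 w33 : A7) : Perm (Fin 7)).cycleType = {3, 3} := by
  rw [coe_P le_rfl (by decide)]
  decide +kernel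

section
variable {F : Type u} [Field F] {H : Subgroup ↥(chevE7.group F)} {φ : A7 →* ↥(chevE7.group F)} {ψ : A7 →* Gh F}

/-- Scott's lemma for `A₇` -/
theorem scott7 {a b c : Multiset ℕ} (hg : GenT 7 a b c)
    (h0 : Representation.invariants (MonoidHom.comp (V F) ψ : Representation F A7 (D1 → F)) = ⊥) :
    ∃ x y z : A7, (x : Perm (Fin 7)).cycleType = a ∧ (y : Perm (Fin 7)).cycleType = b ∧
      (z : Perm (Fin 7)).cycleType = c ∧ ev (V F (ψ x)) 1 + ev (V F (ψ y)) 1 + ev (V F (ψ z)) 1 ≤ 56 := by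
  obtain ⟨x, y, h, hx, hy, hxy⟩ := hg
  refine ⟨x, y, x * y, hx, hy, hxy, ?_⟩
  have h := Cfsg.Agent.H952.F4.Scott.scott_form (MonoidHom.comp (V F) ψ) (x := x) (y := y) h (sf F)
    (fun v hv => sf_nondeg' hv) (fun g v w => sf_V _ v w)
  rw [finrank_V, h0, finrank_bot, mul_zero, add_zero] at h
  exact h

/-- Scott's lemma for `A₆` -/
theorem scott6 {a b c : Multiset ℕ} (hg : GenT 6 a b c) :
    ∃ x y z : A7, (x : Perm (Fin 7)).cycleType = a ∧ (y : Perm (Fin 7)).cycleType = b ∧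
      (z : Perm (Fin 7)).cycleType = c ∧ ev (V F (ψ x)) 1 + ev (V F (ψ y)) 1 + ev (V F (ψ z)) 1 ≤
        56 + 2 * finrank F ↥(inv (MonoidHom.comp (V F) ψ : Representation F A7 (D1 → F)) (Tg 7 gA6)) := by
  obtain ⟨x, y, h, hx, hy, hxy⟩ := hg
  refine ⟨inc x, inc y, inc (x * y), (ct_inc _).trans hx, (ct_inc _).trans hy, (ct_inc _).trans hxy, ?_⟩
  have h := Cfsg.Agent.H952.F4.Scott.scott_form
    (MonoidHom.comp (MonoidHom.comp (V F) ψ : Representation F A7 (D1 → F)) (inc : T3.A 6 →* T3.A 7)) (x := x) (y := y) h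
    (sf F) (fun v hv => sf_nondeg' hv) (fun g v w => sf_V _ v w)
  rw [inv_inc, finrank_V] at h
  exact h

/-- **`n = 7`, lift, characteristic 2** -/
theorem sev2 [Finite F] (hM : MaxAlt H 7 φ) (hL : Lift φ ψ) (h2 : (2 : F) = 0) : False := by
  have h3 : (3 : F) ≠ 0 := by
    intro h
    have h1 : (1 : F) = 0 := by linear_combination h - h2
    exact one_ne_zero h1
  have h5 : (5 : F) ≠ 0 := by
    intro h
    have h1 : (1 : F) = 0 := by linear_combination h - 2 * h2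
    exact one_ne_zero h1
  have hψ : ∀ a, ad F (ψ a) = 1 → a = 1 := fun a ha => hM.inj (by rw [map_one, ← hL, ha])
  have h0 := no_fixed hM (by norm_num) (by norm_num) hL
  set ρ : Representation F A7 (D1 → F) := MonoidHom.comp (V F) ψ with hρ
  have f5 : ∀ x : A7, (x : Perm (Fin 7)).cycleType = {5} → ev (ρ x) 1 = 16 := fun x hx => by
    rw [ev_five ρ hx ct_r5, ← P_w5]
    exact case_5 h5 hψ
  have f3 : ∀ x : A7, (x : Perm (Fin 7)).cycleType = {3} → ev (ρ x) 1 = ev (ρ (P 7 w3)) 1 := fun x hx => by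
    rw [ev_three ρ hx ct_r3, P_w3]
  have f33 : ∀ x : A7, (x : Perm (Fin 7)).cycleType = {3, 3} → ev (ρ x) 1 = ev (ρ (P 7 w33)) 1 := fun x hx =>
    ev_33 ρ hx ct_w33
  have c3 : ev (ρ (P 7 w3)) 1 = 2 ∨ ev (ρ (P 7 w3)) 1 = 32 ∨ ev (ρ (P 7 w3)) 1 = 20 ∨ ev (ρ (P 7 w3)) 1 = 14 :=
    case_3 h3 hψ (l := w3) (by decide) (by decide) (by decide)
  have c33 : ev (ρ (P 7 w33)) 1 = 2 ∨ ev (ρ (P 7 w33)) 1 = 32 ∨ ev (ρ (P 7 w33)) 1 = 20 ∨ ev (ρ (P 7 w33)) 1 = 14 :=
    case_3 h3 hψ (l := w33) (by decide) (by decide) (by decide)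
  have c5 : ev (ρ (P 7 w5)) 1 = 16 := f5 _ (by rw [P_w5]; exact ct_r5)
  have i3 : ev (ρ (P 7 w5)) 1 ≤ ev (ρ (P 7 w3)) 1 := by
    have h := Pat2.le_of_cert h2 (m := 5) (by norm_num) ρ Pat2.cert3 ⊤ (fun _ _ => trivial)
    rw [inf_top_eq, inf_top_eq] at h
    exact h
  have i33 : ev (ρ (P 7 w5)) 1 ≤ ev (ρ (P 7 w33)) 1 := by
    have h := Pat2.le_of_cert h2 (m := 6) (by norm_num) ρ Pat2.cert33 ⊤ (fun _ _ => trivial)
    rw [inf_top_eq, inf_top_eq] at h
    exact h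
  obtain ⟨x, y, z, hx, hy, hz, hs⟩ := scott7 gen7d h0
  have ex : ev (V F (ψ x)) 1 = ev (ρ (P 7 w33)) 1 := f33 x hx
  have ey : ev (V F (ψ y)) 1 = 16 := f5 y hy
  have ez : ev (V F (ψ z)) 1 = 16 := f5 z hz
  rw [ex, ey, ez] at hs
  have g33 : ev (ρ (P 7 w33)) 1 = 20 := by omega
  have f33' : ∀ x : A7, (x : Perm (Fin 7)).cycleType = {3, 3} → ev (ρ x) 1 = 20 := fun x hx => by rw [f33 x hx, g33]
  rcases (by omega : ev (ρ (P 7 w3)) 1 = 32 ∨ ev (ρ (P 7 w3)) 1 = 20) with g3 | g3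
  · have f3' : ∀ x : A7, (x : Perm (Fin 7)).cycleType = {3} → ev (ρ x) 1 = 32 := fun x hx => by rw [f3 x hx, g3]
    obtain ⟨x', y', z', hx', hy', hz', hs'⟩ := scott6 (F := F) (ψ := ψ) Cfsg.Agent.H952.F4.Gen.gen6b
    have ex' : ev (V F (ψ x')) 1 = 32 := f3' x' hx'
    have ey' : ev (V F (ψ y')) 1 = 20 := f33' y' hy'
    have ez' : ev (V F (ψ z')) 1 = 16 := f5 z' hz'
    rw [ex', ey', ez'] at hs'
    exact N7T.t2_false h2 hM hL f3' h0 (by omega)
  · have f3' : ∀ x : A7, (x : Perm (Fin 7)).cycleType = {3} → ev (ρ x) 1 = 20 := fun x hx => by rw [f3 x hx, g3]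
    exact noP2 hM hL h2 f3' f5 (three_le h2 (a := N6D.I2.pa) (b := N6D.I2.pa * N6D.I2.pa') (by decide +kernel)
      (by decide +kernel) (N6D.I2.ineq6 h2) f3' f33' f5)

end

end Cfsg.Agent.R2.T1.N7
end

private theorem dce_5f600f1dba52 : _root_.True := by
  try have : _root_.True := by simp only [_root_.Cfsg.Agent.R2.T1.Mu2.hq.eq_1]
  exact _root_.True.intro
end

-- part: R2/T1/N7/H/Def
section
set_option linter.all false

/-!
# S5929, `n = 7`, `p = 3`: elements of `A₇` (helper23)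

`lc = (0 1 2 4 5 3 6)`, `lr = (0 1 4)(2 3 5)`; `⟨l42, lc⟩ ≅ L₂(7)` contains `lr`; `⟨l42, lr⟩ ≅ S₄` is the stabilizer of 6 there,
`⟨ly2, lv⟩` its normal Klein four-group, `⟨l42, lv⟩` a Sylow 2-subgroup.
-/

set_option autoImplicit false

namespace Cfsg.Agent.R2.T1.N7H

open Cfsg.Agent.R2.T1.Odd

/-- `(0 1 2 4 5 3 6)` -/
def lc : List (ℕ × ℕ) := [(0, 1), (1, 2), (2, 4), (4, 5), (5, 3), (3, 6)]

/-- `(0 1 4)(2 3 5)` -/
def lr : List (ℕ × ℕ) := [(0, 1), (1, 4), (2, 3), (3, 5)]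

/-- the square of `(0 1 2 3)(4 5)` -/
def ly2 : List (ℕ × ℕ) := l42 ++ l42

/-- `r y² r⁻¹` -/
def lv : List (ℕ × ℕ) := lr ++ (l42 ++ l42) ++ (lr ++ lr)

end Cfsg.Agent.R2.T1.N7H
end

-- part: R2/T1/N7/H/Dat
section
prune_inst 0x10044401062000000180006120000444000010200000000d0000d02024632000001204158900c10001a9cc05008000000000000404000000e0034000003002080ac440023100c08120006802084000000000000000000000000000000041004000000000
set_option linter.all false
open scoped Cfsg.Agent.FastGrp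

-- part: R2/T1/N7/H/Mach
section
/-!
# S5929, `n = 7`, `p = 3`: computing with the images of a vector (helper23)

* `Ex` : expressions in the group algebra; `Ex.op σ` : the operator; `Ex.act q` : the action on the coordinates
  with respect to a family `V i` (`i < n`) permuted by the generators;
* `IsFam σ A n q V` : `σ s (V (q s)[i]) = V i` for `s ∈ A`, `i < n`; `act_op` : compatibility, in characteristic 3;
* `fam_of` : families of images of a vector under words of `A₇`.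
-/

set_option autoImplicit false
set_option maxRecDepth 100000
set_option linter.unusedSectionVars false

namespace Cfsg.Agent.R2.T1.N7H

open Module
open Cfsg.Agent.R2.T1.Odd
open Cfsg.Agent.R2.T1.N7 (A7)

/-- expressions in the group algebra -/
inductive Ex where
  | one : Ex
  | gen (s : ℕ) : Ex
  | add (a b : Ex) : Ex
  | mul (a b : Ex) : Ex
  | neg (a : Ex) : Ex

namespace Ex

/-- the letters belong to `A` -/
def ok (A : List ℕ) : Ex → Bool
  | one => true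
  | gen s => A.elem s
  | add a b => a.ok A && b.ok A
  | mul a b => a.ok A && b.ok A
  | neg a => a.ok A

/-- the action on the coordinates -/
def act (q : ℕ → List ℕ) : Ex → List ℕ → List ℕ
  | one, f => f
  | gen s, f => (q s).map fun j => f.getD j 0
  | add a b, f => List.zipWith (fun u v => (u + v) % 3) (a.act q f) (b.act q f)
  | mul a b, f => a.act q (b.act q f)
  | neg a, f => (a.act q f).map fun u => (2 * u) % 3

/-- a word -/
def wdE : List ℕ → Ex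
  | [] => one
  | [s] => gen s
  | s :: l => mul (gen s) (wdE l)

/-- a combination of words with coefficients `1` and `2 = -1` -/
def cb : List (ℕ × List ℕ) → Ex
  | [] => add one (neg one)
  | [e] => if Nat.beq e.1 1 then wdE e.2 else neg (wdE e.2)
  | e :: l => add (if Nat.beq e.1 1 then wdE e.2 else neg (wdE e.2)) (cb l)

/-- `1 + a + ⋯ + a ^ k` -/
def hn (a : Ex) : ℕ → Ex
  | 0 => one
  | k + 1 => add one (mul a (hn a k))

section op
variable {F M : Type*} [Field F] [AddCommGroup M] [Module F M]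

/-- the operator -/
def op (σ : ℕ → Module.End F M) : Ex → Module.End F M
  | one => 1
  | gen s => σ s
  | add a b => a.op σ + b.op σ
  | mul a b => a.op σ * b.op σ
  | neg a => -(a.op σ)

end op

end Ex

section fam
variable {F M : Type*} [Field F] [AddCommGroup M] [Module F M]

variable (F) in
/-- the combination with given coefficients -/
def Phi (n : ℕ) (V : ℕ → M) (f : List ℕ) : M := ∑ i ∈ Finset.range n, ((f.getD i 0 : ℕ) : F) • V i

/-- a family permuted by the operators -/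
structure IsFam (σ : ℕ → Module.End F M) (A : List ℕ) (n : ℕ) (q : ℕ → List ℕ) (V : ℕ → M) : Prop where
  perm : ∀ s ∈ A, (q s).Perm (List.range n)
  eq : ∀ s ∈ A, ∀ i < n, σ s (V ((q s).getD i 0)) = V i

theorem sum_range_getD {N : Type*} [AddCommMonoid N] (G : ℕ → N) {l : List ℕ} {n : ℕ} (hl : l.length = n) :
    ∑ i ∈ Finset.range n, G (l.getD i 0) = (l.map G).sum := by
  subst hl
  induction l with
  | nil => simp
  | cons a l ih =>
    rw [List.length_cons, Finset.sum_range_succ', List.map_cons, List.sum_cons, ← ih, add_comm]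
    simp

theorem range_getD {i n : ℕ} (hi : i < n) : (List.range n).getD i 0 = i := by
  rw [List.getD_eq_getElem _ _ (by rw [List.length_range]; exact hi), List.getElem_range]

theorem sum_perm {N : Type*} [AddCommMonoid N] (G : ℕ → N) {l : List ℕ} {n : ℕ} (hl : l.Perm (List.range n)) :
    ∑ i ∈ Finset.range n, G (l.getD i 0) = ∑ i ∈ Finset.range n, G i := by
  rw [sum_range_getD G (by rw [hl.length_eq, List.length_range]), (hl.map G).sum_eq,
    ← sum_range_getD G List.length_range]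
  exact Finset.sum_congr rfl fun i hi => by rw [range_getD (Finset.mem_range.1 hi)]

theorem getD_zipWith {l l' : List ℕ} (h : l.length = l'.length) (i : ℕ) :
    (List.zipWith (fun u v => (u + v) % 3) l l').getD i 0 = (l.getD i 0 + l'.getD i 0) % 3 := by
  by_cases hi : i < l.length
  · rw [List.getD_eq_getElem _ _ (by rw [List.length_zipWith]; omega), List.getElem_zipWith,
      List.getD_eq_getElem _ _ hi, List.getD_eq_getElem _ _ (by omega)]
  · rw [List.getD_eq_default _ _ (by rw [List.length_zipWith]; omega), List.getD_eq_default _ _ (by omega),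
      List.getD_eq_default _ _ (by omega)]

theorem getD_map {l : List ℕ} {g : ℕ → ℕ} (i : ℕ) (hi : i < l.length) : (l.map g).getD i 0 = g (l.getD i 0) := by
  rw [List.getD_eq_getElem _ _ (by rw [List.length_map]; exact hi), List.getElem_map, List.getD_eq_getElem _ _ hi]

theorem cast_mod (h3 : (3 : F) = 0) (a : ℕ) : ((a % 3 : ℕ) : F) = (a : F) := by
  conv_rhs => rw [← Nat.mod_add_div a 3]
  push_cast
  rw [h3, zero_mul, add_zero]

variable {σ : ℕ → Module.End F M} {A : List ℕ} {n : ℕ} {q : ℕ → List ℕ} {V : ℕ → M}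

theorem act_op (h3 : (3 : F) = 0) (h : IsFam σ A n q V) : ∀ e : Ex, e.ok A = true → ∀ f : List ℕ, f.length = n →
    (e.act q f).length = n ∧ Phi F n V (e.act q f) = e.op σ (Phi F n V f) := by
  intro e
  induction e with
  | one => exact fun _ f hf => ⟨hf, rfl⟩
  | gen s =>
    intro hs f hf
    have hs' : s ∈ A := List.elem_iff.1 hs
    have hp := h.perm s hs'
    have hl : (q s).length = n := by rw [hp.length_eq, List.length_range]
    refine ⟨by show ((q s).map fun j => f.getD j 0).length = n; rw [List.length_map, hl], ?_⟩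
    show ∑ i ∈ Finset.range n, ((((q s).map fun j => f.getD j 0).getD i 0 : ℕ) : F) • V i =
      σ s (∑ i ∈ Finset.range n, ((f.getD i 0 : ℕ) : F) • V i)
    rw [map_sum]
    have h1 := sum_perm (fun j => σ s (((f.getD j 0 : ℕ) : F) • V j)) hp
    rw [← h1]
    refine Finset.sum_congr rfl fun i hi => ?_
    have hi' := Finset.mem_range.1 hi
    rw [getD_map i (by omega), map_smul, h.eq s hs' i hi']
  | add a b iha ihb =>
    intro hs f hf
    have hs' := Bool.and_eq_true_iff.1 hs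
    obtain ⟨ha, ha'⟩ := iha hs'.1 f hf
    obtain ⟨hb, hb'⟩ := ihb hs'.2 f hf
    refine ⟨by show (List.zipWith _ (a.act q f) (b.act q f)).length = n; rw [List.length_zipWith, ha, hb, min_self], ?_⟩
    show Phi F n V _ = (a.op σ + b.op σ) (Phi F n V f)
    rw [LinearMap.add_apply, ← ha', ← hb']
    show ∑ i ∈ Finset.range n, (((List.zipWith (fun u v => (u + v) % 3) (a.act q f) (b.act q f)).getD i 0 : ℕ) : F) • V i =
      ∑ i ∈ Finset.range n, (((a.act q f).getD i 0 : ℕ) : F) • V i + ∑ i ∈ Finset.range n, (((b.act q f).getD i 0 : ℕ) : F) • V i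
    rw [← Finset.sum_add_distrib]
    refine Finset.sum_congr rfl fun i _ => ?_
    rw [getD_zipWith (ha.trans hb.symm), cast_mod h3, Nat.cast_add, add_smul]
  | mul a b iha ihb =>
    intro hs f hf
    have hs' := Bool.and_eq_true_iff.1 hs
    obtain ⟨hb, hb'⟩ := ihb hs'.2 f hf
    obtain ⟨ha, ha'⟩ := iha hs'.1 _ hb
    exact ⟨ha, by show Phi F n V (a.act q (b.act q f)) = a.op σ (b.op σ (Phi F n V f)); rw [ha', hb']⟩
  | neg a iha =>
    intro hs f hf
    obtain ⟨ha, ha'⟩ := iha hs f hf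
    refine ⟨by show ((a.act q f).map _).length = n; rw [List.length_map, ha], ?_⟩
    show Phi F n V _ = -(a.op σ) (Phi F n V f)
    rw [← ha']
    show ∑ i ∈ Finset.range n, ((((a.act q f).map fun u => (2 * u) % 3).getD i 0 : ℕ) : F) • V i =
      -∑ i ∈ Finset.range n, (((a.act q f).getD i 0 : ℕ) : F) • V i
    rw [← Finset.sum_neg_distrib]
    refine Finset.sum_congr rfl fun i hi => ?_
    have hi' := Finset.mem_range.1 hi
    rw [getD_map i (by omega), cast_mod h3, Nat.cast_mul, ← neg_smul]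
    congr 1
    push_cast
    linear_combination (((a.act q f).getD i 0 : ℕ) : F) * h3

/-- the coordinates of a member of the family -/
def dl (n i : ℕ) : List ℕ := (List.range n).map fun j => if Nat.beq j i then 1 else 0

theorem length_dl (n i : ℕ) : (dl n i).length = n := by rw [dl, List.length_map, List.length_range]

theorem Phi_dl {i : ℕ} (hi : i < n) : Phi F n V (dl n i) = V i := by
  have h : ∀ j ∈ Finset.range n, (((dl n i).getD j 0 : ℕ) : F) • V j = if j = i then V i else 0 := by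
    intro j hj
    have hj' := Finset.mem_range.1 hj
    rw [dl, getD_map (g := fun j => if Nat.beq j i then 1 else 0) j (by rw [List.length_range]; exact hj'),
      range_getD hj']
    by_cases h1 : j = i
    · subst h1
      rw [if_pos (Nat.beq_refl j), if_pos rfl, Nat.cast_one, one_smul]
    · rw [if_neg (by rw [nb]; exact h1), if_neg h1, Nat.cast_zero, zero_smul]
  rw [Phi, Finset.sum_congr rfl h, Finset.sum_ite_eq', if_pos (Finset.mem_range.2 hi)]

end fam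

/-! ### families of images of a vector -/

section word
variable {F M : Type*} [Field F] [AddCommGroup M] [Module F M] (ρ : Representation F A7 M)

/-- the operators of a list of generators -/
noncomputable def sg (gens : List (List (ℕ × ℕ))) (s : ℕ) : Module.End F M := ρ (P 7 (gens.getD s []))

/-- the check: `s (W (q s)[i]) = (W i) (U s i)` -/
def chkF (gens : List (List (ℕ × ℕ))) (A B : List ℕ) (n : ℕ) (q : ℕ → List ℕ) (W : List (List ℕ))
    (U : ℕ → List (List ℕ)) : Bool :=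
  gens.all (vl 7) && A.all fun s => (List.range n).all fun i =>
    ((U s).getD i []).all (fun b => B.elem b) &&
      (cd 7 (gens.getD s [] ++ wd gens (W.getD ((q s).getD i 0) [])) ==
        cd 7 (wd gens (W.getD i []) ++ wd gens ((U s).getD i [])))

variable {ρ}

theorem fix_wd {gens : List (List (ℕ × ℕ))} (hg : gens.all (vl 7) = true) {B : List ℕ} {w : M}
    (hw : ∀ b ∈ B, ρ (P 7 (gens.getD b [])) w = w) {u : List ℕ} (hu : u.all (fun b => B.elem b) = true) :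
    ρ (P 7 (wd gens u)) w = w := by
  induction u with
  | nil => rw [wd_nil, P_nil, map_one]; rfl
  | cons a u ih =>
    rw [List.all_cons, Bool.and_eq_true] at hu
    rw [wd_cons, P_append (m := 7) le_rfl (vl_getD hg a) (vl_wd hg u), map_mul, Module.End.mul_apply, ih hu.2]
    exact hw a (List.elem_iff.1 hu.1)

theorem fam_of {gens : List (List (ℕ × ℕ))} {A B : List ℕ} {n : ℕ} {q : ℕ → List ℕ} {W : List (List ℕ)}
    {U : ℕ → List (List ℕ)} (h : chkF gens A B n q W U = true) (hp : ∀ s ∈ A, (q s).Perm (List.range n)) {w : M}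
    (hw : ∀ b ∈ B, ρ (P 7 (gens.getD b [])) w = w) :
    IsFam (sg ρ gens) A n q fun i => ρ (P 7 (wd gens (W.getD i []))) w := by
  obtain ⟨hg, h⟩ := Bool.and_eq_true_iff.1 h
  refine ⟨hp, fun s hs i hi => ?_⟩
  have h1 := List.all_eq_true.1 (List.all_eq_true.1 h s hs) i (List.mem_range.2 hi)
  obtain ⟨h2, h4⟩ := Bool.and_eq_true_iff.1 h1
  have h5 := eq_of_beq h4
  have v1 := vl_getD hg s
  have v2 := vl_wd (m := 7) hg (W.getD ((q s).getD i 0) [])
  have v3 := vl_wd (m := 7) hg (W.getD i [])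
  have v4 := vl_wd (m := 7) hg ((U s).getD i [])
  have h6 := (P_eq_iff (n := 7) (m := 7) le_rfl (vl_append v1 v2) (vl_append v3 v4)).2 h5
  rw [P_append (m := 7) le_rfl v1 v2, P_append (m := 7) le_rfl v3 v4] at h6
  show ρ (P 7 (gens.getD s [])) (ρ (P 7 (wd gens (W.getD ((q s).getD i 0) []))) w) = ρ (P 7 (wd gens (W.getD i []))) w
  rw [← Module.End.mul_apply, ← map_mul, h6, map_mul, Module.End.mul_apply, fix_wd hg hw h2]

end word

end Cfsg.Agent.R2.T1.N7H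
end

-- part: R2/T1/N7/H/Dat
section
/-!
# S5929, `n = 7`, `p = 3`: tables (helper23, generated)

`q24, W24, U24` : the cosets of `⟨lc⟩` in `L = ⟨l42, lc⟩`; `q7, ..` : of `⟨l42, lr⟩` in `L`; `q15, ..` : of `L` in `A₇`;
`q72, ..` : of `⟨l5⟩` in `⟨l5, l42⟩ = A₆`.
-/

set_option autoImplicit false
set_option maxRecDepth 100000

namespace Cfsg.Agent.R2.T1.N7H

open Cfsg.Agent.R2.T1.Odd

/-- the generators -/
def g4 : List (List (ℕ × ℕ)) := [l5, l42, lc, lr]

def W24 : List (List ℕ) := [[], [1], [3], [1, 1], [2, 1], [3, 1], [1, 3], [3, 3], [1, 1, 1], [2, 1, 1], [1, 2,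
  1], [2, 2, 1], [3, 2, 1], [1, 3, 1], [2, 3, 1], [3, 3, 1], [1, 3, 3], [1, 2, 1, 1], [2, 2, 1, 1], [3, 2, 1,
  1], [3, 1, 2, 1], [1, 2, 2, 1], [3, 2, 2, 1], [3, 1, 3, 1]]

def q24 (s : ℕ) : List ℕ := ([[], [8, 0, 15, 1, 17, 12, 2, 22, 3, 10, 4, 23, 18, 5, 6, 14, 7, 9, 13, 16, 21,
  11, 19, 20], [0, 8, 2, 17, 1, 21, 15, 7, 10, 3, 23, 4, 14, 6, 5, 18, 22, 13, 9, 11, 12, 16, 20, 19], [7, 15,
  0, 12, 3, 1, 22, 2, 17, 21, 18, 6, 4, 14, 23, 5, 8, 16, 20, 9, 10, 19, 11, 13]] : List (List ℕ)).getD s []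

def U24 (s : ℕ) : List (List ℕ) := ([[], [[], [], [], [], [2], [2, 2, 2, 2], [], [2, 2, 2], [], [2, 2, 2, 2,
  2, 2], [], [2, 2, 2, 2], [2, 2, 2, 2, 2], [], [2, 2], [2, 2, 2, 2, 2], [], [], [2, 2, 2, 2, 2], [2, 2], [2,
  2, 2, 2, 2, 2], [], [2, 2], [2, 2, 2, 2]], [[2], [2, 2, 2, 2, 2, 2], [2, 2, 2, 2], [2], [], [2], [2, 2, 2],
  [2, 2], [2, 2, 2, 2, 2, 2], [], [2, 2, 2, 2], [], [], [2, 2], [], [2, 2, 2], [2], [2, 2, 2, 2, 2], [], [2,
  2, 2, 2], [2, 2], [2, 2, 2, 2, 2], [2, 2, 2, 2, 2], [2]], [[], [], [], [2, 2, 2, 2], [2, 2, 2], [], [2, 2,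
  2], [], [2, 2, 2, 2, 2], [2, 2, 2, 2, 2], [2, 2, 2, 2, 2], [2, 2, 2, 2], [], [2, 2, 2, 2, 2], [2, 2], [],
  [], [2, 2], [2, 2], [], [], [2, 2], [], []]] : List (List (List ℕ))).getD s []

private noncomputable def _root_.Cfsg.Agent.LsF.fd19eb7_0 : {f // @Cfsg.Agent.R2.T1.Odd.vl = f} := ⟨_, by first | (delta Cfsg.Agent.R2.T1.Odd.vl; rewrite [Cfsg.Agent.LsF.nmod_pat, Cfsg.Agent.LsF.and_eq, Cfsg.Agent.LsF.not_eq, Cfsg.Agent.LsF.all_eq, Cfsg.Agent.LsF.length_eq]; exact rfl) | exact rfl⟩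
private noncomputable def _root_.Cfsg.Agent.LsF.fd19eb7_1 : {f // @Cfsg.Agent.R2.T1.Odd.ap = f} := ⟨_, by first | (delta Cfsg.Agent.R2.T1.Odd.ap List.brecOn List.brecOn.go Cfsg.Agent.R2.T1.Odd.ap._f; rewrite [Cfsg.Agent.LsF.dBoolEq_eq, Cfsg.Agent.LsF.ite_eq]; (try delta Cfsg.Agent.R2.T1.Odd.ap.match_1); (try delta List.casesOn); first | dsimp -zeta only | exact rfl) | exact rfl⟩
private noncomputable def _root_.Cfsg.Agent.LsF.fd19eb7_2 : {f // @Cfsg.Agent.R2.T1.Odd.cd = f} := ⟨_, by first | (delta Cfsg.Agent.R2.T1.Odd.cd; rewrite [Cfsg.Agent.LsF.fd19eb7_1.2, Cfsg.Agent.LsF.map_eq, Cfsg.Agent.LsF.range_eq]; exact rfl) | exact rfl⟩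
private noncomputable def _root_.Cfsg.Agent.LsF.fd19eb7_3 : {f // @Cfsg.Agent.R2.T1.Odd.wd = f} := ⟨_, by first | (delta Cfsg.Agent.R2.T1.Odd.wd; rewrite [Cfsg.Agent.LsF.map_eq, Cfsg.Agent.LsF.flatten_eq, Cfsg.Agent.LsF.getD_eq]; exact rfl) | exact rfl⟩
private noncomputable def _root_.Cfsg.Agent.LsF.fd19eb7_4 : {f // @Cfsg.Agent.R2.T1.N7H.chkF = f} := ⟨_, by first | (delta Cfsg.Agent.R2.T1.N7H.chkF; rewrite [Cfsg.Agent.LsF.fd19eb7_0.2, Cfsg.Agent.LsF.fd19eb7_2.2, Cfsg.Agent.LsF.fd19eb7_3.2, Cfsg.Agent.LsF.instNBEq_pat, Cfsg.Agent.LsF.lappend_pat, Cfsg.Agent.LsF.and_eq, Cfsg.Agent.LsF.all_eq, Cfsg.Agent.LsF.elem_eq, Cfsg.Agent.LsF.range_eq, Cfsg.Agent.LsF.getD_eq, Cfsg.Agent.LsF.instBEq_eq]; exact rfl) | exact rfl⟩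
private noncomputable def _root_.Cfsg.Agent.LsF.fd19eb7_5 : {f // @Cfsg.Agent.R2.T1.N7H.q24 = f} := ⟨_, by first | (delta Cfsg.Agent.R2.T1.N7H.q24; rewrite [Cfsg.Agent.LsF.getD_eq]; exact rfl) | exact rfl⟩
private noncomputable def _root_.Cfsg.Agent.LsF.fd19eb7_6 : {f // @Cfsg.Agent.R2.T1.N7H.U24 = f} := ⟨_, by first | (delta Cfsg.Agent.R2.T1.N7H.U24; rewrite [Cfsg.Agent.LsF.getD_eq]; exact rfl) | exact rfl⟩
theorem chk24 : chkF g4 [1, 2, 3] [2] 24 q24 W24 U24 = true := by ((try (rewrite [Cfsg.Agent.LsF.fd19eb7_4.2, Cfsg.Agent.LsF.fd19eb7_5.2, Cfsg.Agent.LsF.fd19eb7_6.2])); decide +kernel)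

theorem perm24 : ∀ s ∈ [1, 2, 3], (q24 s).Perm (List.range 24) := by decide +kernel

def W7 : List (List ℕ) := [[], [2], [1, 2], [1, 1, 2], [3, 1, 2], [1, 1, 1, 2], [1, 3, 1, 2]]

def q7 (s : ℕ) : List ℕ := ([[], [0, 5, 1, 2, 6, 3, 4], [5, 0, 1, 2, 3, 6, 4], [0, 4, 1, 6, 2, 3, 5]] : List
  (List ℕ)).getD s []

def U7 (s : ℕ) : List (List ℕ) := ([[], [[1], [], [], [], [1, 3, 3], [], []], [[1], [], [1, 3, 1, 1], [1, 1],
  [3, 1, 1], [1], [3, 1, 3]], [[3], [1, 1, 3, 1], [1, 1, 3, 1], [1, 3, 3], [], [3, 1, 3, 1], [1, 1, 3, 1]]] :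
  List (List (List ℕ))).getD s []

theorem chk7 : chkF g4 [1, 2, 3] [1, 3] 7 q7 W7 U7 = true := by decide +kernel

theorem perm7 : ∀ s ∈ [1, 2, 3], (q7 s).Perm (List.range 7) := by decide +kernel

def W15 : List (List ℕ) := [[], [0], [0, 0], [1, 0], [2, 0], [0, 0, 0], [1, 0, 0], [1, 1, 0], [2, 2, 0], [1,
  0, 0, 0], [2, 0, 0, 0], [0, 1, 0, 0], [1, 1, 0, 0], [0, 2, 2, 0], [1, 2, 2, 0]]

def q15 (s : ℕ) : List ℕ := ([[3, 0, 1, 5, 14, 2, 7, 4, 10, 13, 12, 6, 9, 8, 11], [0, 4, 13, 1, 7, 14, 2, 3,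
  9, 5, 11, 10, 6, 12, 8], [0, 9, 3, 7, 1, 6, 2, 13, 4, 11, 5, 12, 14, 10, 8], []] : List (List ℕ)).getD s []

def U15 (s : ℕ) : List (List ℕ) := ([[[2, 1, 1, 2, 2, 1, 1], [], [], [1, 2, 1, 1, 2, 2, 1, 1, 1], [2, 2, 2, 2,
  2], [], [2, 1, 1, 2, 2, 1], [1, 1, 2, 2, 1, 1, 2, 2], [2, 1, 2, 2, 2, 1], [1, 2, 2, 2, 1, 2, 1], [2, 2, 1,
  1, 2, 2], [], [2, 1, 1, 2, 2], [], [2, 2, 2, 2, 2]], [[1], [1, 2, 2, 2, 1, 1, 2], [1, 1, 1, 2, 2, 2, 1], [],
  [2, 2, 1, 1, 2, 2, 2, 1], [1, 1, 1, 2, 2], [], [], [1, 2, 1, 2, 2], [], [1, 1, 2, 2, 2, 1, 1], [1, 2, 2, 1,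
  2, 2, 2], [], [2, 1, 2, 2, 1, 1, 2], []], [[2], [1, 2, 2, 2, 1, 2], [2, 1, 1, 2, 2, 2, 1, 2], [2, 2, 1, 1,
  2, 2, 2, 1], [], [2, 1, 2, 1], [1, 2, 1, 1], [1, 1, 2, 2, 1, 1, 1], [], [1, 1, 2, 2, 2, 1, 1], [], [1, 1, 2,
  2, 2, 1, 2], [2, 2, 2], [1, 1, 2, 1], [1, 2, 1, 2, 2, 2]], []] : List (List (List ℕ))).getD s []

private noncomputable def _root_.Cfsg.Agent.LsF.fd19eb7_7 : {f // @Cfsg.Agent.R2.T1.N7H.q15 = f} := ⟨_, by first | (delta Cfsg.Agent.R2.T1.N7H.q15; rewrite [Cfsg.Agent.LsF.getD_eq]; exact rfl) | exact rfl⟩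
private noncomputable def _root_.Cfsg.Agent.LsF.fd19eb7_8 : {f // @Cfsg.Agent.R2.T1.N7H.U15 = f} := ⟨_, by first | (delta Cfsg.Agent.R2.T1.N7H.U15; rewrite [Cfsg.Agent.LsF.getD_eq]; exact rfl) | exact rfl⟩
theorem chk15 : chkF g4 [0, 1, 2] [1, 2] 15 q15 W15 U15 = true := by ((try (rewrite [Cfsg.Agent.LsF.fd19eb7_4.2, Cfsg.Agent.LsF.fd19eb7_7.2, Cfsg.Agent.LsF.fd19eb7_8.2])); decide +kernel)

theorem perm15 : ∀ s ∈ [0, 1, 2], (q15 s).Perm (List.range 15) := by decide +kernel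

def W72 : List (List ℕ) := [[], [1], [0, 1], [1, 1], [0, 0, 1], [1, 0, 1], [0, 1, 1], [1, 1, 1], [0, 0, 0, 1],
  [1, 0, 0, 1], [0, 1, 0, 1], [1, 1, 0, 1], [0, 0, 1, 1], [1, 0, 1, 1], [0, 1, 1, 1], [0, 0, 0, 0, 1], [1, 0,
  0, 0, 1], [0, 1, 0, 0, 1], [1, 1, 0, 0, 1], [0, 0, 1, 0, 1], [1, 1, 1, 0, 1], [0, 0, 0, 1, 1], [1, 0, 0, 1,
  1], [0, 1, 0, 1, 1], [1, 1, 0, 1, 1], [0, 0, 1, 1, 1], [1, 0, 1, 1, 1], [1, 1, 0, 0, 0, 1], [1, 0, 1, 0, 0,
  1], [0, 1, 1, 0, 0, 1], [1, 1, 1, 0, 0, 1], [0, 0, 0, 1, 0, 1], [1, 0, 0, 1, 0, 1], [0, 1, 1, 1, 0, 1], [0,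
  0, 0, 0, 1, 1], [1, 0, 0, 0, 1, 1], [0, 1, 0, 0, 1, 1], [0, 0, 1, 0, 1, 1], [1, 0, 1, 0, 1, 1], [0, 1, 1, 0,
  1, 1], [1, 1, 1, 0, 1, 1], [1, 0, 0, 1, 1, 1], [0, 1, 0, 1, 1, 1], [1, 1, 0, 1, 1, 1], [0, 1, 1, 0, 0, 0,
  1], [1, 1, 1, 0, 0, 0, 1], [1, 1, 0, 1, 0, 0, 1], [1, 0, 1, 1, 0, 0, 1], [0, 1, 1, 1, 0, 0, 1], [0, 0, 0, 0,
  1, 0, 1], [1, 1, 0, 0, 1, 0, 1], [1, 0, 1, 1, 1, 0, 1], [1, 0, 1, 0, 0, 1, 1], [1, 0, 0, 1, 0, 1, 1], [1, 1,
  0, 1, 0, 1, 1], [0, 1, 0, 0, 1, 1, 1], [1, 1, 0, 0, 1, 1, 1], [0, 0, 1, 0, 1, 1, 1], [1, 0, 1, 0, 1, 1, 1],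
  [0, 0, 1, 1, 1, 0, 0, 1], [1, 0, 1, 1, 1, 0, 0, 1], [0, 1, 1, 0, 0, 1, 0, 1], [0, 1, 0, 1, 1, 1, 0, 1], [1,
  1, 0, 1, 1, 1, 0, 1], [1, 1, 0, 0, 1, 0, 1, 1], [1, 1, 1, 0, 1, 0, 1, 1], [1, 1, 1, 0, 0, 1, 1, 1], [1, 1,
  0, 1, 0, 1, 1, 1], [1, 0, 1, 0, 1, 1, 1, 0, 1], [0, 1, 1, 0, 0, 1, 0, 1, 1], [1, 1, 1, 0, 0, 1, 0, 1, 1],
  [1, 1, 0, 1, 0, 1, 1, 1, 0, 1]]

def q72 (s : ℕ) : List ℕ := ([[0, 15, 1, 34, 2, 49, 3, 17, 4, 25, 5, 37, 6, 16, 7, 8, 11, 9, 59, 10, 43, 12,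
  55, 13, 62, 14, 28, 35, 40, 18, 29, 19, 33, 20, 21, 56, 22, 23, 32, 24, 57, 45, 26, 38, 27, 36, 66, 39, 30,
  31, 70, 47, 67, 46, 44, 41, 54, 42, 53, 48, 52, 50, 51, 58, 60, 61, 63, 69, 65, 64, 68, 71], [7, 0, 20, 1,
  30, 2, 40, 3, 45, 4, 46, 5, 35, 6, 15, 43, 8, 10, 9, 59, 11, 22, 12, 65, 13, 66, 14, 16, 17, 39, 18, 47, 19,
  34, 63, 21, 55, 70, 23, 31, 24, 25, 44, 26, 67, 27, 28, 29, 49, 57, 32, 33, 36, 37, 38, 61, 41, 60, 42, 50,
  48, 52, 69, 51, 53, 54, 56, 58, 62, 71, 64, 68], [], []] : List (List ℕ)).getD s []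

def U72 (s : ℕ) : List (List ℕ) := ([[[0], [], [], [], [], [], [], [0, 0, 0], [], [0, 0], [], [0, 0, 0], [],
  [0], [], [], [0], [], [0, 0, 0], [], [0, 0, 0], [], [0, 0], [], [0, 0, 0], [], [0, 0], [0], [0, 0], [], [0,
  0], [], [0], [], [], [0, 0, 0, 0], [], [], [], [], [0], [0, 0, 0], [], [0], [], [], [0, 0, 0], [], [], [],
  [], [0, 0], [0, 0], [0], [0, 0], [], [0, 0, 0], [], [], [], [], [], [], [], [0, 0, 0, 0], [0], [0], [0, 0,
  0, 0], [0, 0], [], [0, 0], [0, 0, 0, 0]], [[], [], [], [], [], [], [], [], [], [], [0, 0, 0, 0], [], [0, 0],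
  [], [0], [0, 0, 0, 0], [], [0], [], [0, 0], [], [0, 0, 0], [], [], [], [], [], [], [], [0, 0], [], [0, 0,
  0], [], [], [], [], [0, 0, 0, 0], [], [], [], [], [], [0, 0, 0], [], [0, 0], [], [], [], [], [0], [], [],
  [], [], [], [0, 0, 0, 0], [], [0, 0, 0, 0], [], [0, 0, 0], [], [0, 0], [0, 0, 0, 0], [], [], [], [], [], [],
  [0], [], []], [], []] : List (List (List ℕ))).getD s []

private noncomputable def _root_.Cfsg.Agent.LsF.fd19eb7_9 : {f // @Cfsg.Agent.R2.T1.N7H.q72 = f} := ⟨_, by first | (delta Cfsg.Agent.R2.T1.N7H.q72; rewrite [Cfsg.Agent.LsF.getD_eq]; exact rfl) | exact rfl⟩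
private noncomputable def _root_.Cfsg.Agent.LsF.fd19eb7_10 : {f // @Cfsg.Agent.R2.T1.N7H.U72 = f} := ⟨_, by first | (delta Cfsg.Agent.R2.T1.N7H.U72; rewrite [Cfsg.Agent.LsF.getD_eq]; exact rfl) | exact rfl⟩
theorem chk72 : chkF g4 [0, 1] [0] 72 q72 W72 U72 = true := by ((try (rewrite [Cfsg.Agent.LsF.fd19eb7_4.2, Cfsg.Agent.LsF.fd19eb7_9.2, Cfsg.Agent.LsF.fd19eb7_10.2])); decide +kernel)

theorem perm72 : ∀ s ∈ [0, 1], (q72 s).Perm (List.range 72) := by decide +kernel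

/-- the norm of `⟨lc⟩` -/
def e7 : Ex := .hn (.gen 2) 6

/-- the norm of the Klein four-group -/
def eV : Ex := .mul (.add .one (.wdE [1, 1])) (.add .one (.wdE [3, 1, 1, 3, 3]))

def kap : Ex := .cb [(1, []), (2, [1]), (2, [1, 3]), (2, [3, 1])]

def w1 : Ex := .mul eV (.gen 2)

def bb : Ex := .mul (.mul eV (.add .one (.gen 1))) (.cb [(1, []), (1, [2]), (2, [3]), (2, [3, 3, 2])])

/-- the norm of `⟨l42⟩` -/
def e4 : Ex := .hn (.gen 1) 3

def bp : Ex := .neg (.mul (.hn (.gen 0) 4) (.cb [(1, []), (2, [1, 0, 1, 1, 1, 0]), (2, [1, 1, 0, 0]), (2, [1,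
  1, 0]), (2, [1, 0, 0, 0]), (2, [1, 1, 1, 0, 0]), (1, [1, 0, 0, 1, 1, 0]), (1, [1, 0, 1, 0, 0]), (1, [1, 0,
  0, 1, 1, 1, 0]), (2, [1, 1, 0, 1, 0, 0])]))

def eps : Ex := .add e4 (.neg (.mul e4 (.mul bp e4)))

theorem c24 : (Ex.mul e7 (.mul eV kap)).act q24 (dl 24 0) = dl 24 0 := by decide +kernel

theorem c7a : (Ex.mul e7 w1).act q7 (dl 7 0) = [1, 1, 1, 1, 1, 1, 1] := by decide +kernel

theorem c7b : (Ex.mul bb w1).act q7 (dl 7 0) = [0, 2, 2, 2, 2, 2, 2] := by decide +kernel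

theorem c7c : (Ex.mul bb (.mul (.gen 3) w1)).act q7 (dl 7 0) = [0, 0, 0, 0, 0, 0, 0] := by decide +kernel

theorem c7d : (Ex.mul bb (.mul (.gen 3) (.mul (.gen 3) w1))).act q7 (dl 7 0) = [0, 0, 0, 0, 0, 0, 0] := by decide +kernel

theorem c7e : (Ex.mul e7 (.mul (.gen 3) w1)).act q7 (dl 7 0) = [1, 1, 1, 1, 1, 1, 1] := by decide +kernel

theorem c7f : (Ex.mul e7 (.mul (.gen 3) (.mul (.gen 3) w1))).act q7 (dl 7 0) = [1, 1, 1, 1, 1, 1, 1] := by decide +kernel

private noncomputable def _root_.Cfsg.Agent.LsF.fd19eb7_11 : {f // @Cfsg.Agent.R2.T1.N7H.Ex.act = f} := ⟨_, by first | (delta Cfsg.Agent.R2.T1.N7H.Ex.act Cfsg.Agent.R2.T1.N7H.Ex.act._f Cfsg.Agent.R2.T1.N7H.Ex.brecOn.go Cfsg.Agent.R2.T1.N7H.Ex.brecOn; rewrite [Cfsg.Agent.LsF.nadd_pat, Cfsg.Agent.LsF.nmul_pat, Cfsg.Agent.LsF.nmod_pat, Cfsg.Agent.LsF.map_eq, Cfsg.Agent.LsF.zipWith_eq, Cfsg.Agent.LsF.getD_eq]; (try delta Cfsg.Agent.R2.T1.N7H.Ex.act.match_1); (try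 delta Cfsg.Agent.R2.T1.N7H.Ex.casesOn); first | dsimp -zeta only | exact rfl) | exact rfl⟩
private noncomputable def _root_.Cfsg.Agent.LsF.fd19eb7_12 : {f // @Cfsg.Agent.R2.T1.N7H.Ex.hn = f} := ⟨_, by first | (delta Cfsg.Agent.R2.T1.N7H.Ex.hn Nat.brecOn.go Nat.brecOn Cfsg.Agent.R2.T1.N7H.Ex.hn._f; (try delta Cfsg.Agent.R2.T1.N7H.Ex.hn.match_1); (try delta Nat.casesOn); first | dsimp -zeta only | exact rfl) | exact rfl⟩
private noncomputable def _root_.Cfsg.Agent.LsF.fd19eb7_13 : {f // @Cfsg.Agent.R2.T1.N7H.Ex.wdE = f} := ⟨_, by first | (delta Cfsg.Agent.R2.T1.N7H.Ex.wdE List.brecOn List.brecOn.go Cfsg.Agent.R2.T1.N7H.Ex.wdE._f; (try delta Cfsg.Agent.R2.T1.N7H.Ex.wdE.match_1); (try delta Cfsg.Agent.R2.T1.N7H.Ex.wdE._sparseCasesOn_1); (try delta List.casesOn); first | dsimp -zeta only | exact rfl) | exact rfl⟩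
private noncomputable def _root_.Cfsg.Agent.LsF.fd19eb7_14 : {f // @Cfsg.Agent.R2.T1.N7H.Ex.cb = f} := ⟨_, by first | (delta Cfsg.Agent.R2.T1.N7H.Ex.cb List.brecOn Cfsg.Agent.R2.T1.N7H.Ex.cb._f List.brecOn.go; rewrite [Cfsg.Agent.LsF.fd19eb7_13.2, Cfsg.Agent.LsF.dBoolEq_eq, Cfsg.Agent.LsF.ite_eq]; (try delta Cfsg.Agent.R2.T1.N7H.Ex.cb.match_1); (try delta Cfsg.Agent.R2.T1.N7H.Ex.wdE._sparseCasesOn_1); (try delta List.casesOn); first | dsimp -zeta only | exact rfl) | exact rfl⟩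
private noncomputable def _root_.Cfsg.Agent.LsF.fd19eb7_15 : {f // @Cfsg.Agent.R2.T1.N7H.bp = f} := ⟨_, by first | (delta Cfsg.Agent.R2.T1.N7H.bp; rewrite [Cfsg.Agent.LsF.fd19eb7_12.2, Cfsg.Agent.LsF.fd19eb7_14.2]; exact rfl) | exact rfl⟩
private noncomputable def _root_.Cfsg.Agent.LsF.fd19eb7_16 : {f // @Cfsg.Agent.R2.T1.N7H.e4 = f} := ⟨_, by first | (delta Cfsg.Agent.R2.T1.N7H.e4; rewrite [Cfsg.Agent.LsF.fd19eb7_12.2]; exact rfl) | exact rfl⟩
private noncomputable def _root_.Cfsg.Agent.LsF.fd19eb7_17 : {f // @Cfsg.Agent.R2.T1.N7H.dl = f} := ⟨_, by first | (delta Cfsg.Agent.R2.T1.N7H.dl; rewrite [Cfsg.Agent.LsF.map_eq, Cfsg.Agent.LsF.range_eq, Cfsg.Agent.LsF.dBoolEq_eq, Cfsg.Agent.LsF.ite_eq]; exact rfl) | exact rfl⟩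
theorem c72 : (Ex.mul bp e4).act q72 (dl 72 0) = dl 72 0 := by (refine of_decide_eq_true ?_; (try (rewrite [Cfsg.Agent.LsF.fd19eb7_11.2, Cfsg.Agent.LsF.fd19eb7_9.2, Cfsg.Agent.LsF.fd19eb7_15.2, Cfsg.Agent.LsF.fd19eb7_16.2, Cfsg.Agent.LsF.fd19eb7_17.2, Cfsg.Agent.LsF.instDecEq_eq, Cfsg.Agent.LsF.dListEq_eq, Cfsg.Agent.LsF.decide_eq])); decide +kernel)

def fs : List (List ℕ) := [[1, 0, 0, 0, 0, 0, 0, 0, 0, 0, 0, 0, 0, 0, 0], [0, 0, 0, 0, 0, 0, 0, 0, 0, 0, 0, 0,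
  0, 0, 0], [2, 0, 0, 0, 0, 0, 0, 0, 0, 0, 0, 0, 0, 0, 0], [1, 0, 1, 0, 0, 0, 0, 0, 0, 0, 0, 0, 0, 0, 0], [0,
  0, 2, 0, 0, 0, 0, 0, 0, 0, 0, 0, 0, 0, 0], [1, 0, 0, 0, 0, 0, 0, 0, 0, 0, 0, 0, 0, 0, 0], [2, 0, 2, 0, 0, 0,
  0, 0, 0, 0, 0, 0, 0, 0, 0]]

/-- a combination of the relations -/
def hsum : List (List ℕ) → List ℕ
  | [] => (List.range 15).map fun _ => 0
  | f :: l => List.zipWith (fun u v => (u + v) % 3) (eps.act q15 f) ((Ex.gen 2).act q15 (hsum l))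

private noncomputable def _root_.Cfsg.Agent.LsF.fd19eb7_18 : {f // @Cfsg.Agent.R2.T1.N7H.eps = f} := ⟨_, by first | (delta Cfsg.Agent.R2.T1.N7H.eps; rewrite [Cfsg.Agent.LsF.fd19eb7_16.2, Cfsg.Agent.LsF.fd19eb7_15.2]; exact rfl) | exact rfl⟩
private noncomputable def _root_.Cfsg.Agent.LsF.fd19eb7_19 : {f // @Cfsg.Agent.R2.T1.N7H.hsum = f} := ⟨_, by first | (delta Cfsg.Agent.R2.T1.N7H.hsum List.brecOn List.brecOn.go Cfsg.Agent.R2.T1.N7H.hsum._f; rewrite [Cfsg.Agent.LsF.fd19eb7_11.2, Cfsg.Agent.LsF.fd19eb7_7.2, Cfsg.Agent.LsF.fd19eb7_18.2, Cfsg.Agent.LsF.nadd_pat, Cfsg.Agent.LsF.nmod_pat, Cfsg.Agent.LsF.map_eq, Cfsg.Agent.LsF.zipWith_eq, Cfsg.Agent.LsF.range_eq]; (try delta Cfsg.Agent.R2.T1.N7H.hsum.match_1); (try delta List.casesOn); first | dsimp -zeta only | exact rfl) | exact rfl⟩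
theorem c15 : hsum fs = [1, 2, 0, 0, 0, 0, 0, 0, 0, 0, 0, 0, 0, 0, 0] := by (refine of_decide_eq_true ?_; (try (rewrite [Cfsg.Agent.LsF.fd19eb7_19.2, Cfsg.Agent.LsF.instDecEq_eq, Cfsg.Agent.LsF.dListEq_eq, Cfsg.Agent.LsF.decide_eq])); decide +kernel)

theorem len15 : ∀ f ∈ fs, f.length = 15 := by decide +kernel

def star : List (List ℕ) := [[], [], [1, 1, 0, 0, 1, 1, 0], [1, 1, 0, 1, 1, 0, 0], [0, 0, 1, 1], [2, 1, 0, 1,
  2, 0, 1], [2, 2, 0, 1, 0, 1, 0, 0]]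

theorem chkStar : ((List.range 7).all fun k => Nat.beq k 0 || (cd 7 (wd g4 (star.getD k [])) == cd 7 [(0, 1), (0, k)]) &&
    (star.getD k []).all fun b => Nat.blt b 3) = true := by decide +kernel

end Cfsg.Agent.R2.T1.N7H
end

private theorem dce_85f4aed79195 : _root_.True := by
  try have : _root_.True := by simp only [_root_.Cfsg.Agent.R2.T1.N7H.Phi.eq_1]
  try have : _root_.True := by simp only [_root_.Cfsg.Agent.R2.T1.N7H.dl.eq_1]
  exact _root_.True.intro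
end
end

-- part: R2/T1/N7/H/One
section
set_option linter.all false
open scoped Cfsg.Agent.FastGrp

/-!
# S5929, `n = 7`, `p = 3`: the first inequality for `L₂(7)` (helper23)

`one_ineq` : if `M` has no vectors fixed by `l42, lc`, then `3 dim M^{S₄} + dim M^{7} ≤ dim M^{V₄}`.
-/

set_option autoImplicit false
set_option maxRecDepth 100000
set_option linter.unusedSectionVars false

namespace Cfsg.Agent.R2.T1.N7H

open Module
open Cfsg.Agent.R2.T1.Odd
open Cfsg.Agent.R2.T1.N7 (A7 mem_inv_Tg)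
open Cfsg.Agent.H952.F4 (ev)

variable {F M : Type*} [Field F] [AddCommGroup M] [Module F M] (ρ : Representation F A7 M)

/-- the operator of an expression -/
noncomputable abbrev O (e : Ex) : Module.End F M := e.op (sg ρ g4)

variable {ρ}

theorem O_mul (a b : Ex) (v : M) : O ρ (.mul a b) v = O ρ a (O ρ b v) := rfl

theorem O_add (a b : Ex) (v : M) : O ρ (.add a b) v = O ρ a v + O ρ b v := rfl

theorem O_one (v : M) : O ρ .one v = v := rfl

theorem vl_g4 : g4.all (vl 7) = true := by decide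

theorem O_wd : ∀ l : List ℕ, O ρ (.wdE l) = ρ (P 7 (wd g4 l)) := by
  intro l
  induction l with
  | nil =>
    rw [wd_nil, P_nil, map_one]
    rfl
  | cons a l ih =>
    rw [wd_cons, P_append (m := 7) le_rfl (vl_getD vl_g4 a) (vl_wd vl_g4 l), map_mul, ← ih]
    cases l with
    | nil => show sg ρ g4 a = sg ρ g4 a * 1; rw [mul_one]
    | cons b l => rfl

theorem P_rel {a b : List (ℕ × ℕ)} (ha : vl 7 a = true) (hb : vl 7 b = true) (h : cd 7 a = cd 7 b) :
    P 7 a = P 7 b := (P_eq_iff (n := 7) (m := 7) le_rfl ha hb).2 h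

theorem rho_rel {a b c d : List (ℕ × ℕ)} (ha : vl 7 a = true) (hb : vl 7 b = true) (hc : vl 7 c = true) (hd : vl 7 d = true)
    (h : cd 7 (a ++ b) = cd 7 (c ++ d)) (v : M) : ρ (P 7 a) (ρ (P 7 b) v) = ρ (P 7 c) (ρ (P 7 d) v) := by
  have h1 := P_rel (vl_append ha hb) (vl_append hc hd) h
  rw [P_append (m := 7) le_rfl ha hb, P_append (m := 7) le_rfl hc hd] at h1
  rw [← Module.End.mul_apply, ← map_mul, h1, map_mul, Module.End.mul_apply]

theorem rho_nil (v : M) : ρ (P 7 []) v = v := by rw [P_nil, map_one]; rfl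

/-! ### the Klein four-group -/

theorem eV_op (v : M) : O ρ eV v = (v + ρ (P 7 lv) v) + ρ (P 7 ly2) (v + ρ (P 7 lv) v) := by
  show O ρ (.mul (.add .one (.wdE [1, 1])) (.add .one (.wdE [3, 1, 1, 3, 3]))) v = _
  rw [O_mul, O_add, O_add, O_one, O_one, O_wd, O_wd]
  rfl

theorem y2_eV (v : M) : ρ (P 7 ly2) (O ρ eV v) = O ρ eV v := by
  rw [eV_op, map_add]
  have h : ∀ w : M, ρ (P 7 ly2) (ρ (P 7 ly2) w) = w := fun w => by
    rw [rho_rel (c := []) (d := []) (by decide) (by decide) (by decide) (by decide) (by decide) w, rho_nil, rho_nil]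
  rw [h, add_comm]

theorem v_eV (v : M) : ρ (P 7 lv) (O ρ eV v) = O ρ eV v := by
  rw [eV_op]
  have h : ∀ w : M, ρ (P 7 lv) (ρ (P 7 lv) w) = w := fun w => by
    rw [rho_rel (c := []) (d := []) (by decide) (by decide) (by decide) (by decide) (by decide +kernel) w, rho_nil, rho_nil]
  have h' : ∀ w : M, ρ (P 7 lv) (ρ (P 7 ly2) w) = ρ (P 7 ly2) (ρ (P 7 lv) w) := fun w =>
    rho_rel (by decide) (by decide) (by decide) (by decide) (by decide +kernel) w
  rw [map_add, h', map_add, h, add_comm (ρ (P 7 lv) v) v]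

variable (ρ) in
/-- the fixed points of the Klein four-group -/
noncomputable abbrev WV : Submodule F M := inv ρ (Tg 7 [ly2, lv])

variable (ρ) in
/-- the fixed points of `S₄` -/
noncomputable abbrev WS : Submodule F M := inv ρ (Tg 7 [l42, lr])

theorem mem_WV {v : M} : v ∈ WV ρ ↔ ρ (P 7 ly2) v = v ∧ ρ (P 7 lv) v = v := by
  constructor
  · intro h
    exact ⟨h _ (P_getD_mem (gens := [ly2, lv]) 0), h _ (P_getD_mem (gens := [ly2, lv]) 1)⟩
  · rintro ⟨h1, h2⟩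
    refine mem_inv_Tg fun g hg => ?_
    simp only [List.mem_cons, List.not_mem_nil, or_false] at hg
    rcases hg with rfl | rfl
    · exact h1
    · exact h2

theorem mem_WS {v : M} : v ∈ WS ρ ↔ ρ (P 7 l42) v = v ∧ ρ (P 7 lr) v = v := by
  constructor
  · intro h
    exact ⟨h _ (P_getD_mem (gens := [l42, lr]) 0), h _ (P_getD_mem (gens := [l42, lr]) 1)⟩
  · rintro ⟨h1, h2⟩
    refine mem_inv_Tg fun g hg => ?_
    simp only [List.mem_cons, List.not_mem_nil, or_false] at hg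
    rcases hg with rfl | rfl
    · exact h1
    · exact h2

theorem eV_mem (v : M) : O ρ eV v ∈ WV ρ := mem_WV.2 ⟨y2_eV v, v_eV v⟩

theorem r_mem {v : M} (hv : v ∈ WV ρ) : ρ (P 7 lr) v ∈ WV ρ := by
  obtain ⟨h1, h2⟩ := mem_WV.1 hv
  refine mem_WV.2 ⟨?_, ?_⟩
  · rw [rho_rel (a := ly2) (b := lr) (c := lr) (d := ly2 ++ lv) (by decide) (by decide) (by decide) (by decide)
      (by decide +kernel) v, P_append (m := 7) le_rfl (by decide) (by decide), map_mul, Module.End.mul_apply, h2, h1]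
  · rw [rho_rel (a := lv) (b := lr) (c := lr) (d := ly2) (by decide) (by decide) (by decide) (by decide)
      (by decide +kernel) v, h1]

theorem r_cube (v : M) : ρ (P 7 lr) (ρ (P 7 lr) (ρ (P 7 lr) v)) = v := by
  rw [← Module.End.mul_apply, ← map_mul, ← P_append (m := 7) le_rfl (by decide) (by decide),
    rho_rel (a := lr ++ lr) (b := lr) (c := []) (d := []) (by decide) (by decide) (by decide) (by decide)
      (by decide) v, rho_nil, rho_nil]

/-! ### the certificates -/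

variable (h3 : (3 : F) = 0)

include h3 in
/-- `e₇ e_V κ = 1` on the fixed points of `lc` -/
theorem e7_eV {w : M} (hw : ρ (P 7 lc) w = w) : O ρ e7 (O ρ eV (O ρ kap w)) = w := by
  have hf := fam_of (ρ := ρ) (gens := g4) chk24 perm24 (w := w) (by
    intro b hb
    simp only [List.mem_cons, List.not_mem_nil, or_false] at hb
    subst hb
    exact hw)
  have h := (act_op h3 hf (.mul e7 (.mul eV kap)) (by decide) (dl 24 0) (length_dl _ _)).2
  rw [c24, Phi_dl (by norm_num)] at h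
  have h0 : ρ (P 7 (wd g4 (W24.getD 0 []))) w = w := rho_nil w
  rw [h0] at h
  exact h.symm

section seven
variable {u : M} (hu : u ∈ WS ρ)

/-- the family of seven vectors -/
noncomputable def V7 (ρ : Representation F A7 M) (u : M) (i : ℕ) : M := ρ (P 7 (wd g4 (W7.getD i []))) u

theorem V7_zero : V7 ρ u 0 = u := rho_nil u

include hu in
theorem fam7 : IsFam (sg ρ g4) [1, 2, 3] 7 q7 (V7 ρ u) :=
  fam_of (ρ := ρ) (gens := g4) chk7 perm7 (w := u) (by
    intro b hb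
    simp only [List.mem_cons, List.not_mem_nil, or_false] at hb
    rcases hb with rfl | rfl
    · exact (mem_WS.1 hu).1
    · exact (mem_WS.1 hu).2)

theorem ones_gen : (Ex.gen 1).act q7 [1, 1, 1, 1, 1, 1, 1] = [1, 1, 1, 1, 1, 1, 1] ∧
    (Ex.gen 2).act q7 [1, 1, 1, 1, 1, 1, 1] = [1, 1, 1, 1, 1, 1, 1] := by decide +kernel

variable (hL : ∀ v : M, ρ (P 7 l42) v = v → ρ (P 7 lc) v = v → v = 0)

include h3 hu hL in
theorem ones_zero : Phi F 7 (V7 ρ u) [1, 1, 1, 1, 1, 1, 1] = 0 := by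
  apply hL
  · have h := (act_op h3 (fam7 hu) (.gen 1) (by decide) [1, 1, 1, 1, 1, 1, 1] rfl).2
    rw [ones_gen.1] at h
    exact h.symm
  · have h := (act_op h3 (fam7 hu) (.gen 2) (by decide) [1, 1, 1, 1, 1, 1, 1] rfl).2
    rw [ones_gen.2] at h
    exact h.symm

include h3 hu hL in
theorem sum7 : V7 ρ u 0 + V7 ρ u 1 + V7 ρ u 2 + V7 ρ u 3 + V7 ρ u 4 + V7 ρ u 5 + V7 ρ u 6 = 0 := by
  have h := ones_zero h3 hu hL
  simpa only [Phi, Finset.sum_range_succ, _root_.List.getD_eq_getElem?_getD, _root_.Finset.range_one, _root_.Finset.sum_singleton, _root_.List.length_cons, _root_.List.length_nil, _root_.zero_add, _root_.Nat.reduceAdd, _root_.Nat.ofNat_pos, _root_.getElem?_pos, _root_.List.getElem_cons_zero, _root_.Option.getD_some, _root_.Nat.cast_one, _root_.one_smul, _root_.Nat.one_lt_ofNat, _root_.List.getElem_cons_succ, _root_.Nat.reduceLT, _root_.Nat.lt_add_one] using h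

include h3 hu hL in
theorem get7 (e : Ex) (he : e.ok [1, 2, 3] = true) {k : ℕ} (h : e.act q7 (dl 7 0) = [k, k, k, k, k, k, k]) :
    O ρ e u = 0 := by
  have h1 := (act_op h3 (fam7 hu) e he (dl 7 0) (length_dl _ _)).2
  rw [h, Phi_dl (by norm_num), V7_zero] at h1
  rw [O, ← h1]
  have h2 := sum7 h3 hu hL
  have h4 : Phi F 7 (V7 ρ u) [k, k, k, k, k, k, k] = ((k : ℕ) : F) • (V7 ρ u 0 + V7 ρ u 1 + V7 ρ u 2 + V7 ρ u 3 +
      V7 ρ u 4 + V7 ρ u 5 + V7 ρ u 6) := by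
    simp only [Phi, Finset.sum_range_succ, Finset.sum_range_zero, List.getD_cons_zero, List.getD_cons_succ, smul_add,
      zero_add]
  rw [h4, h2, smul_zero]

include h3 hu hL in
theorem bb_w1 : O ρ bb (O ρ w1 u) = u := by
  have h1 := (act_op h3 (fam7 hu) (.mul bb w1) (by decide) (dl 7 0) (length_dl _ _)).2
  rw [c7b, Phi_dl (by norm_num), V7_zero] at h1
  have h2 := sum7 h3 hu hL
  have h4 : Phi F 7 (V7 ρ u) [0, 2, 2, 2, 2, 2, 2] = (2 : F) • (V7 ρ u 0 + V7 ρ u 1 + V7 ρ u 2 + V7 ρ u 3 +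
      V7 ρ u 4 + V7 ρ u 5 + V7 ρ u 6) + V7 ρ u 0 - (3 : F) • V7 ρ u 0 := by
    simp only [Phi, Finset.sum_range_succ, Finset.sum_range_zero, List.getD_cons_zero, List.getD_cons_succ]
    push_cast
    module
  rw [h4, h2, h3, smul_zero, zero_smul, zero_add, sub_zero, V7_zero] at h1
  exact h1.symm

end seven

/-! ### the inequality -/

variable (ρ) in
/-- the map `(M^{S₄})³ × M^{7} → M^{V₄}` -/
noncomputable def Psi : (↥(WS ρ) × ↥(WS ρ) × ↥(WS ρ) × ↥(Module.End.eigenspace (ρ (P 7 lc)) 1)) →ₗ[F] M :=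
  LinearMap.coprod ((O ρ w1) ∘ₗ (WS ρ).subtype)
    (LinearMap.coprod ((ρ (P 7 lr)) ∘ₗ (O ρ w1) ∘ₗ (WS ρ).subtype)
      (LinearMap.coprod ((ρ (P 7 lr)) ∘ₗ (ρ (P 7 lr)) ∘ₗ (O ρ w1) ∘ₗ (WS ρ).subtype)
        ((O ρ eV) ∘ₗ (O ρ kap) ∘ₗ (Module.End.eigenspace (ρ (P 7 lc)) 1).subtype)))

theorem Psi_apply (a b c : ↥(WS ρ)) (w : ↥(Module.End.eigenspace (ρ (P 7 lc)) 1)) : Psi ρ (a, b, c, w) =
    O ρ w1 a + (ρ (P 7 lr) (O ρ w1 b) + (ρ (P 7 lr) (ρ (P 7 lr) (O ρ w1 c)) + O ρ eV (O ρ kap w))) := rfl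

theorem w1_mem (u : M) : O ρ w1 u ∈ WV ρ := eV_mem _

theorem Psi_mem (x : ↥(WS ρ) × ↥(WS ρ) × ↥(WS ρ) × ↥(Module.End.eigenspace (ρ (P 7 lc)) 1)) : Psi ρ x ∈ WV ρ := by
  obtain ⟨a, b, c, w⟩ := x
  rw [Psi_apply]
  exact add_mem (w1_mem _) (add_mem (r_mem (w1_mem _)) (add_mem (r_mem (r_mem (w1_mem _))) (eV_mem _)))

include h3 in
theorem Psi_inj (hL : ∀ v : M, ρ (P 7 l42) v = v → ρ (P 7 lc) v = v → v = 0) : Function.Injective (Psi ρ) := by
  rw [← LinearMap.ker_eq_bot, LinearMap.ker_eq_bot']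
  rintro ⟨a, b, c, w⟩ h
  rw [Psi_apply] at h
  have hw : ρ (P 7 lc) (w : M) = w := by
    have := Module.End.mem_eigenspace_iff.1 w.2
    rwa [one_smul] at this
  have hg : ∀ v : M, O ρ (.gen 3) v = ρ (P 7 lr) v := fun v => rfl
  have e1 : ∀ u : ↥(WS ρ), O ρ e7 (O ρ w1 u) = 0 := fun u =>
    get7 h3 u.2 hL (.mul e7 w1) (by decide) c7a
  have e2 : ∀ u : ↥(WS ρ), O ρ e7 (ρ (P 7 lr) (O ρ w1 u)) = 0 := fun u =>
    get7 h3 u.2 hL (.mul e7 (.mul (.gen 3) w1)) (by decide) c7e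
  have e3 : ∀ u : ↥(WS ρ), O ρ e7 (ρ (P 7 lr) (ρ (P 7 lr) (O ρ w1 u))) = 0 := fun u =>
    get7 h3 u.2 hL (.mul e7 (.mul (.gen 3) (.mul (.gen 3) w1))) (by decide) c7f
  have f2 : ∀ u : ↥(WS ρ), O ρ bb (ρ (P 7 lr) (O ρ w1 u)) = 0 := fun u =>
    get7 h3 u.2 hL (.mul bb (.mul (.gen 3) w1)) (by decide) c7c
  have f3 : ∀ u : ↥(WS ρ), O ρ bb (ρ (P 7 lr) (ρ (P 7 lr) (O ρ w1 u))) = 0 := fun u =>
    get7 h3 u.2 hL (.mul bb (.mul (.gen 3) (.mul (.gen 3) w1))) (by decide) c7d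
  have f1 : ∀ u : ↥(WS ρ), O ρ bb (O ρ w1 u) = u := fun u => bb_w1 h3 u.2 hL
  have hw0 : (w : M) = 0 := by
    have h1 := congrArg (O ρ e7) h
    rw [map_add, map_add, map_add, map_zero, e1, e2, e3, e7_eV h3 hw, zero_add, zero_add, zero_add] at h1
    exact h1
  rw [hw0, map_zero, map_zero, add_zero] at h
  have ha : (a : M) = 0 := by
    have h1 := congrArg (O ρ bb) h
    rw [map_add, map_add, map_zero, f1, f2, f3, add_zero, add_zero] at h1
    exact h1
  rw [ha, map_zero, zero_add, ← map_add] at h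
  have h' : O ρ w1 (b : M) + ρ (P 7 lr) (O ρ w1 c) = 0 := by
    have h1 := congrArg (fun v => ρ (P 7 lr) (ρ (P 7 lr) v)) h
    simp only [map_zero] at h1
    rwa [r_cube] at h1
  have hb : (b : M) = 0 := by
    have h1 := congrArg (O ρ bb) h'
    rw [map_add, map_zero, f1, f2, add_zero] at h1
    exact h1
  rw [hb, map_zero, zero_add] at h'
  have h'' : O ρ w1 (c : M) = 0 := by
    have h1 := congrArg (fun v => ρ (P 7 lr) (ρ (P 7 lr) v)) h'
    simp only [map_zero] at h1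
    rwa [r_cube] at h1
  have hc : (c : M) = 0 := by
    rw [← f1 c, h'', map_zero]
  have ea : a = 0 := Subtype.ext ha
  have eb : b = 0 := Subtype.ext hb
  have ec : c = 0 := Subtype.ext hc
  have ew : w = 0 := Subtype.ext hw0
  rw [ea, eb, ec, ew]
  rfl

include h3 in
/-- **`3 dim M^{S₄} + dim M^{7} ≤ dim M^{V₄}`.** -/
theorem one_ineq [FiniteDimensional F M] (hL : ∀ v : M, ρ (P 7 l42) v = v → ρ (P 7 lc) v = v → v = 0) :
    3 * finrank F ↥(WS ρ) + ev (ρ (P 7 lc)) 1 ≤ finrank F ↥(WV ρ) := by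
  have h1 := LinearMap.finrank_le_finrank_of_injective (f := (Psi ρ).codRestrict (WV ρ) Psi_mem)
    (fun x y hxy => Psi_inj h3 hL (congrArg Subtype.val hxy))
  rw [Module.finrank_prod, Module.finrank_prod, Module.finrank_prod] at h1
  unfold ev
  omega

end Cfsg.Agent.R2.T1.N7H

private theorem dce_d0ec00dc1858 : _root_.True := by
  try have : _root_.True := by simp only [_root_.Cfsg.Agent.R2.T1.N7H.O.eq_1]
  exact _root_.True.intro
end

-- part: R2/T1/N7/H/Two_mg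
section
set_option linter.all false
open scoped Cfsg.Agent.FastGrp

-- part: R2/T1/N7/H/Two
section
/-!
# S5929, `n = 7`, `p = 3`: the vectors fixed by `L₂(7)` (helper23)

`fixed_all` : if `dim M^{l5} = dim M^{l42}`, then every vector fixed by `l42, lc` is fixed by `A₇`.
-/

set_option autoImplicit false
set_option maxRecDepth 100000
set_option linter.unusedSectionVars false

namespace Cfsg.Agent.R2.T1.N7H

open Module Equiv Equiv.Perm
open Cfsg.Agent.R2.T1.Odd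
open Cfsg.Agent.R2.T1.N7 (A7 mem_inv_Tg)
open Cfsg.Agent.H952.F4 (ev)

variable {F M : Type*} [Field F] [AddCommGroup M] [Module F M] {ρ : Representation F A7 M} (h3 : (3 : F) = 0)

theorem e4_op (v : M) : O ρ e4 v = v + ρ (P 7 l42) (v + ρ (P 7 l42) (v + ρ (P 7 l42) v)) := rfl

theorem y_four (v : M) : ρ (P 7 l42) (ρ (P 7 l42) (ρ (P 7 l42) (ρ (P 7 l42) v))) = v := by
  have h := rho_rel (ρ := ρ) (a := l42 ++ l42) (b := l42 ++ l42) (c := []) (d := []) (by decide) (by decide) (by decide) (by decide)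
    (by decide) v
  rw [rho_nil, rho_nil, P_append (m := 7) le_rfl (by decide) (by decide), map_mul, Module.End.mul_apply,
    Module.End.mul_apply] at h
  exact h

theorem y_e4 (v : M) : ρ (P 7 l42) (O ρ e4 v) = O ρ e4 v := by
  rw [e4_op]
  simp only [map_add]
  rw [y_four]
  abel

include h3 in
theorem bp_e4 {w : M} (hw : ρ (P 7 l5) w = w) : O ρ bp (O ρ e4 w) = w := by
  have hf := fam_of (ρ := ρ) (gens := g4) chk72 perm72 (w := w) (by
    intro b hb
    simp only [List.mem_cons, List.not_mem_nil, or_false] at hb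
    subst hb
    exact hw)
  have h := (act_op h3 hf (.mul bp e4) (by decide) (dl 72 0) (length_dl _ _)).2
  rw [c72, Phi_dl (by norm_num)] at h
  have h0 : ρ (P 7 (wd g4 (W72.getD 0 []))) w = w := rho_nil w
  rw [h0] at h
  exact h.symm

include h3 in
/-- the relation `ε = 0` -/
theorem eps_zero [FiniteDimensional F M] (h45 : ev (ρ (P 7 l42)) 1 = ev (ρ (P 7 l5)) 1) (u : M) : O ρ eps u = 0 := by
  let f : ↥(Module.End.eigenspace (ρ (P 7 l5)) 1) →ₗ[F] ↥(Module.End.eigenspace (ρ (P 7 l42)) 1) :=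
    LinearMap.codRestrict _ ((O ρ e4) ∘ₗ (Module.End.eigenspace (ρ (P 7 l5)) 1).subtype) fun w =>
      Module.End.mem_eigenspace_iff.2 (by rw [one_smul]; exact y_e4 _)
  have hx : ∀ w : ↥(Module.End.eigenspace (ρ (P 7 l5)) 1), ρ (P 7 l5) (w : M) = w := fun w => by
    have := Module.End.mem_eigenspace_iff.1 w.2
    rwa [one_smul] at this
  have hf : Function.Injective f := by
    rw [← LinearMap.ker_eq_bot, LinearMap.ker_eq_bot']
    intro w hw
    have h1 : O ρ e4 (w : M) = 0 := congrArg Subtype.val hw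
    have h2 := bp_e4 h3 (hx w)
    rw [h1, map_zero] at h2
    exact Subtype.ext h2.symm
  have hs : Function.Surjective f := (LinearMap.injective_iff_surjective_of_finrank_eq_finrank (show
    finrank F ↥(Module.End.eigenspace (ρ (P 7 l5)) 1) = finrank F ↥(Module.End.eigenspace (ρ (P 7 l42)) 1) from
      h45.symm)).1 hf
  obtain ⟨w, hw⟩ := hs ⟨O ρ e4 u, Module.End.mem_eigenspace_iff.2 (by rw [one_smul]; exact y_e4 _)⟩
  have h1 : O ρ e4 (w : M) = O ρ e4 u := congrArg Subtype.val hw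
  have h2 := bp_e4 h3 (hx w)
  show O ρ e4 u + -(O ρ e4 (O ρ bp (O ρ e4 u))) = 0
  rw [← h1, h2, add_neg_cancel]

/-- the family of fifteen vectors -/
noncomputable def V15 (ρ : Representation F A7 M) (u : M) (i : ℕ) : M := ρ (P 7 (wd g4 (W15.getD i []))) u

include h3 in
theorem x_fix [FiniteDimensional F M] (h45 : ev (ρ (P 7 l42)) 1 = ev (ρ (P 7 l5)) 1) {u : M}
    (hy : ρ (P 7 l42) u = u) (hc : ρ (P 7 lc) u = u) : ρ (P 7 l5) u = u := by
  have hf : IsFam (sg ρ g4) [0, 1, 2] 15 q15 (V15 ρ u) :=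
    fam_of (ρ := ρ) (gens := g4) chk15 perm15 (w := u) (by
      intro b hb
      simp only [List.mem_cons, List.not_mem_nil, or_false] at hb
      rcases hb with rfl | rfl
      · exact hy
      · exact hc)
  have key : ∀ l : List (List ℕ), (∀ f ∈ l, f.length = 15) → (hsum l).length = 15 ∧ Phi F 15 (V15 ρ u) (hsum l) = 0 := by
    intro l
    induction l with
    | nil =>
      intro _
      refine ⟨by rw [hsum, List.length_map, List.length_range], ?_⟩
      rw [Phi]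
      refine Finset.sum_eq_zero fun i hi => ?_
      rw [hsum, getD_map (g := fun _ => 0) i (by rw [List.length_range]; exact Finset.mem_range.1 hi), Nat.cast_zero,
        zero_smul]
    | cons f l ih =>
      intro hl
      obtain ⟨h1, h2⟩ := ih fun g hg => hl g (List.mem_cons_of_mem _ hg)
      have a1 := act_op h3 hf eps (by decide) f (hl f List.mem_cons_self)
      have a2 := act_op h3 hf (.gen 2) (by decide) (hsum l) h1
      refine ⟨by rw [hsum, List.length_zipWith, a1.1, a2.1, min_self], ?_⟩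
      have a3 : Phi F 15 (V15 ρ u) (hsum (f :: l)) = Phi F 15 (V15 ρ u) (eps.act q15 f) +
          Phi F 15 (V15 ρ u) ((Ex.gen 2).act q15 (hsum l)) := by
        rw [Phi, Phi, Phi, ← Finset.sum_add_distrib]
        refine Finset.sum_congr rfl fun i _ => ?_
        rw [hsum, getD_zipWith (a1.1.trans a2.1.symm), cast_mod h3, Nat.cast_add, add_smul]
      rw [a3, a1.2, a2.2, h2, map_zero, add_zero]
      exact eps_zero h3 h45 _
  have h1 := (key fs len15).2
  rw [c15] at h1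
  have h2 : Phi F 15 (V15 ρ u) [1, 2, 0, 0, 0, 0, 0, 0, 0, 0, 0, 0, 0, 0, 0] = V15 ρ u 0 + (2 : F) • V15 ρ u 1 := by
    simp only [Phi, Finset.sum_range_succ, Finset.sum_range_zero, List.getD_cons_zero, List.getD_cons_succ]
    push_cast
    simp
  rw [h2] at h1
  have h0 : V15 ρ u 0 = u := rho_nil u
  have h4 : V15 ρ u 1 = ρ (P 7 l5) u := rfl
  rw [h0, h4] at h1
  have h5 : u + (2 : F) • ρ (P 7 l5) u = (u - ρ (P 7 l5) u) + (3 : F) • ρ (P 7 l5) u := by module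
  rw [h5, h3, zero_smul, add_zero, sub_eq_zero] at h1
  exact h1.symm

/-- a vector fixed by `l5, l42, lc` is fixed by `A₇` -/
theorem fix_all {u : M} (hx : ρ (P 7 l5) u = u) (hy : ρ (P 7 l42) u = u) (hc : ρ (P 7 lc) u = u) (g : A7) : ρ g u = u := by
  let R : Subgroup A7 :=
    { carrier := {g | ρ g u = u}
      one_mem' := by show ρ 1 u = u; rw [map_one]; rfl
      mul_mem' := by
        intro a b ha hb
        show ρ (a * b) u = u
        rw [map_mul, Module.End.mul_apply, show ρ b u = u from hb, show ρ a u = u from ha]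
      inv_mem' := by
        intro a ha
        show ρ a⁻¹ u = u
        have h1 : ρ a⁻¹ (ρ a u) = u := by rw [← Module.End.mul_apply, ← map_mul, inv_mul_cancel, map_one]; rfl
        rwa [show ρ a u = u from ha] at h1 }
  have key : ∀ k : Fin 7, k ≠ 0 → swap 0 1 * swap 0 k ∈ R.map (alternatingGroup (Fin 7)).subtype := by
    intro k hk
    have h1 := List.all_eq_true.1 chkStar k.val (List.mem_range.2 k.2)
    have hk0 : Nat.beq k.val 0 = false := by
      rw [← Bool.not_eq_true, nb]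
      exact fun h => hk (Fin.ext h)
    rw [hk0, Bool.false_or, Bool.and_eq_true] at h1
    obtain ⟨h1, h2⟩ := h1
    have h4 := eq_of_beq h1
    have hkv : k.val ≠ 0 := fun h => hk (Fin.ext h)
    have v1 : vl 7 [(0, 1), (0, k.val)] = true := by
      rw [vl_iff]
      refine ⟨by simp, ?_⟩
      intro p hp
      simp only [List.mem_cons, List.not_mem_nil, or_false] at hp
      rcases hp with rfl | rfl
      · exact ⟨by norm_num, by norm_num, by norm_num⟩
      · exact ⟨by norm_num, k.2, fun h => hkv h.symm⟩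
    have h5 := P_rel (vl_wd vl_g4 _) v1 h4
    refine ⟨P 7 [(0, 1), (0, k.val)], ?_, ?_⟩
    · rw [← h5]
      refine fix_wd vl_g4 (B := [0, 1, 2]) ?_ ?_
      · intro b hb
        simp only [List.mem_cons, List.not_mem_nil, or_false] at hb
        rcases hb with rfl | rfl | rfl
        · exact hx
        · exact hy
        · exact hc
      · rw [List.all_eq_true] at h2 ⊢
        intro b hb
        have := h2 b hb
        have hb3 : b < 3 := by
          rw [Nat.blt_eq] at this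
          exact this
        interval_cases b <;> rfl
    · show ((P 7 [(0, 1), (0, k.val)] : A7) : Perm (Fin 7)) = _
      rw [coe_P le_rfl v1]
      show (swap (Fin.ofNat 7 0) (Fin.ofNat 7 1) * (swap (Fin.ofNat 7 0) (Fin.ofNat 7 k.val) * 1) : Perm (Fin 7)) = _
      rw [mul_one]
      congr 2
      apply Fin.ext
      rw [Fin.val_ofNat, Nat.mod_eq_of_lt k.2]
  have h := Cfsg.Agent.H952.F4.Gen.mem_of_star (n := 5) (R.map (alternatingGroup (Fin 7)).subtype) (by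
    rintro _ ⟨a, -, rfl⟩
    exact a.2) key g.2
  obtain ⟨a, ha, ha'⟩ := h
  have : a = g := Subtype.ext ha'
  rw [← this]
  exact ha

include h3 in
/-- **Every vector fixed by `L₂(7)` is fixed by `A₇`.** -/
theorem fixed_all [FiniteDimensional F M] (h45 : ev (ρ (P 7 l42)) 1 = ev (ρ (P 7 l5)) 1) {u : M}
    (hy : ρ (P 7 l42) u = u) (hc : ρ (P 7 lc) u = u) (g : A7) : ρ g u = u :=
  fix_all (x_fix h3 h45 hy hc) hy hc g

end Cfsg.Agent.R2.T1.N7H
end

-- part: R2/T1/N7/H/S3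
section
/-!
# S5929, `n = 7`, `p = 3`: the inequality for the action of `S₃` (helper23)

`s3_ineq` : `3 dim M^{D₈} ≤ dim M^{V₄} + 3 dim M^{S₄}` for a self-dual module in characteristic 3.
-/

set_option autoImplicit false
set_option maxRecDepth 100000
set_option linter.unusedSectionVars false

namespace Cfsg.Agent.R2.T1.N7H

open Module
open Cfsg.Agent.R2.T1.Odd
open Cfsg.Agent.R2.T1.N7 (A7 mem_inv_Tg)
open Cfsg.Agent.H952.F4 (ev)

/-! ### linear algebra -/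

section lin
variable {F M : Type*} [Field F] [AddCommGroup M] [Module F M] [FiniteDimensional F M]

theorem finrank_map_ker (Q : Submodule F M) {M' : Type*} [AddCommGroup M'] [Module F M'] (δ : M →ₗ[F] M') :
    finrank F ↥(Q.map δ) + finrank F ↥(Q ⊓ LinearMap.ker δ : Submodule F M) = finrank F ↥Q := by
  have h1 := LinearMap.finrank_range_add_finrank_ker (δ.domRestrict Q)
  rw [LinearMap.range_domRestrict, LinearMap.ker_domRestrict, ← Submodule.finrank_map_subtype_eq,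
    Submodule.map_comap_subtype] at h1
  exact h1

/-- `P` and `N` are exchanged by `δ`, `δ³ = 0` on `N`; `B u (δ w) = 0` for all `w ∈ N` implies `δ u = 0` -/
theorem lin_ineq (P N : Submodule F M) (δ : Module.End F M) (hP : ∀ u ∈ P, δ u ∈ N) (hN : ∀ u ∈ N, δ u ∈ P)
    (h3 : ∀ u ∈ N, δ (δ (δ u)) = 0) (B : LinearMap.BilinForm F M)
    (hB : ∀ u ∈ P, (∀ w ∈ N, B u (δ w) = 0) → δ u = 0) :
    2 * finrank F ↥P ≤ finrank F ↥N + 3 * finrank F ↥(P ⊓ LinearMap.ker δ : Submodule F M) := by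
  have hAP : N.map δ ≤ P := by
    rw [Submodule.map_le_iff_le_comap]
    exact fun u hu => hN u hu
  have e1 := finrank_map_ker N δ
  have e2 := finrank_map_ker (N.map δ) δ
  have e3 : finrank F ↥(N.map δ ⊓ LinearMap.ker δ : Submodule F M) ≤ finrank F ↥(P ⊓ LinearMap.ker δ : Submodule F M) :=
    Submodule.finrank_mono (inf_le_inf_right _ hAP)
  have e4 : finrank F ↥((N.map δ).map δ) ≤ finrank F ↥(N ⊓ LinearMap.ker δ : Submodule F M) := by
    refine Submodule.finrank_mono ?_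
    rintro _ ⟨_, ⟨u, hu, rfl⟩, rfl⟩
    exact ⟨hP _ (hN u hu), LinearMap.mem_ker.2 (h3 u hu)⟩
  have e5 : finrank F ↥P ≤ finrank F ↥(N.map δ) + finrank F ↥(P ⊓ LinearMap.ker δ : Submodule F M) := by
    have h1 := finrank_map_ker P ((N.map δ).subtype.dualMap ∘ₗ B)
    have h2 : finrank F ↥(P.map ((N.map δ).subtype.dualMap ∘ₗ B)) ≤ finrank F ↥(N.map δ) := by
      have := Submodule.finrank_le (P.map ((N.map δ).subtype.dualMap ∘ₗ B))
      rwa [Subspace.dual_finrank_eq] at this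
    have h4 : finrank F ↥(P ⊓ LinearMap.ker ((N.map δ).subtype.dualMap ∘ₗ B) : Submodule F M) ≤
        finrank F ↥(P ⊓ LinearMap.ker δ : Submodule F M) := by
      refine Submodule.finrank_mono ?_
      rintro u ⟨hu, hu'⟩
      refine ⟨hu, LinearMap.mem_ker.2 (hB u hu fun w hw => ?_)⟩
      have h5 := LinearMap.mem_ker.1 hu'
      exact LinearMap.congr_fun h5 ⟨δ w, Submodule.mem_map_of_mem hw⟩
    omega
  omega

end lin

/-! ### the application -/

variable {F M : Type*} [Field F] [AddCommGroup M] [Module F M] {ρ : Representation F A7 M}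

theorem y_mem {v : M} (hv : v ∈ WV ρ) : ρ (P 7 l42) v ∈ WV ρ := by
  obtain ⟨h1, h2⟩ := mem_WV.1 hv
  refine mem_WV.2 ⟨?_, ?_⟩
  · rw [rho_rel (a := ly2) (b := l42) (c := l42) (d := ly2) (by decide) (by decide) (by decide) (by decide)
      (by decide) v, h1]
  · rw [rho_rel (a := lv) (b := l42) (c := l42) (d := ly2 ++ lv) (by decide) (by decide) (by decide) (by decide)
      (by decide) v, P_append (m := 7) le_rfl (by decide) (by decide), map_mul, Module.End.mul_apply, h2, h1]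

theorem yy {v : M} : ρ (P 7 l42) (ρ (P 7 l42) v) = ρ (P 7 ly2) v := by
  rw [rho_rel (a := l42) (b := l42) (c := ly2) (d := []) (by decide) (by decide) (by decide) (by decide)
      (by decide) v, rho_nil]

theorem y_r {v : M} (hv : v ∈ WV ρ) : ρ (P 7 l42) (ρ (P 7 lr) v) = ρ (P 7 lr) (ρ (P 7 lr) (ρ (P 7 l42) v)) := by
  obtain ⟨h1, h2⟩ := mem_WV.1 hv
  have h := rho_rel (ρ := ρ) (a := l42) (b := lr) (c := lr ++ lr) (d := l42 ++ (ly2 ++ lv)) (by decide) (by decide)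
    (by decide) (by decide) (by decide) v
  rw [h, P_append (m := 7) le_rfl (by decide) (by decide), map_mul, Module.End.mul_apply,
    P_append (m := 7) le_rfl (l := l42) (by decide) (by decide), map_mul, Module.End.mul_apply,
    P_append (m := 7) le_rfl (l := ly2) (by decide) (by decide), map_mul, Module.End.mul_apply, h2, h1]

theorem y_r2 {v : M} (hv : v ∈ WV ρ) : ρ (P 7 l42) (ρ (P 7 lr) (ρ (P 7 lr) v)) = ρ (P 7 lr) (ρ (P 7 l42) v) := by
  rw [y_r (r_mem hv), y_r hv, r_cube]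

variable (ρ) in
/-- the two eigenspaces of `y` on the fixed points of the Klein four-group -/
noncomputable def WN : Submodule F M := WV ρ ⊓ LinearMap.ker (ρ (P 7 l42) + 1)

theorem mem_WN {v : M} : v ∈ WN ρ ↔ v ∈ WV ρ ∧ ρ (P 7 l42) v = -v := by
  rw [WN, Submodule.mem_inf, LinearMap.mem_ker, LinearMap.add_apply, Module.End.one_apply, add_eq_zero_iff_eq_neg]

variable (ρ) in
/-- the fixed points of `D₈` -/
noncomputable abbrev WD : Submodule F M := inv ρ (Tg 7 [l42, lv])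

theorem mem_WD {v : M} : v ∈ WD ρ ↔ v ∈ WV ρ ∧ ρ (P 7 l42) v = v := by
  constructor
  · intro h
    have h1 : ρ (P 7 l42) v = v := h _ (P_getD_mem (gens := [l42, lv]) 0)
    have h2 : ρ (P 7 lv) v = v := h _ (P_getD_mem (gens := [l42, lv]) 1)
    exact ⟨mem_WV.2 ⟨by rw [← yy, h1, h1], h2⟩, h1⟩
  · rintro ⟨h1, h2⟩
    have h4 := (mem_WV.1 h1).2
    refine mem_inv_Tg fun g hg => ?_
    simp only [List.mem_cons, List.not_mem_nil, or_false] at hg
    rcases hg with rfl | rfl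
    · exact h2
    · exact h4

variable (ρ) in
/-- `r - r⁻¹` -/
noncomputable def dlt : Module.End F M := ρ (P 7 lr) - ρ (P 7 lr) * ρ (P 7 lr)

theorem dlt_apply (v : M) : dlt ρ v = ρ (P 7 lr) v - ρ (P 7 lr) (ρ (P 7 lr) v) := rfl

theorem dlt_mem {v : M} (hv : v ∈ WV ρ) : dlt ρ v ∈ WV ρ := by
  rw [dlt_apply]
  exact sub_mem (r_mem hv) (r_mem (r_mem hv))

theorem dlt_D {v : M} (hv : v ∈ WD ρ) : dlt ρ v ∈ WN ρ := by
  obtain ⟨h1, h2⟩ := mem_WD.1 hv
  refine mem_WN.2 ⟨dlt_mem h1, ?_⟩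
  rw [dlt_apply, map_sub, y_r h1, y_r2 h1, h2, neg_sub]

theorem dlt_N {v : M} (hv : v ∈ WN ρ) : dlt ρ v ∈ WD ρ := by
  obtain ⟨h1, h2⟩ := mem_WN.1 hv
  refine mem_WD.2 ⟨dlt_mem h1, ?_⟩
  rw [dlt_apply, map_sub, y_r h1, y_r2 h1, h2, map_neg, map_neg]
  abel

variable (h3 : (3 : F) = 0)

include h3 in
theorem dlt_cube (v : M) : dlt ρ (dlt ρ (dlt ρ v)) = 0 := by
  simp only [dlt_apply, map_sub, r_cube]
  have : (3 : F) • (ρ (P 7 lr) (ρ (P 7 lr) v) - ρ (P 7 lr) v) = 0 := by rw [h3, zero_smul]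
  rw [← this]
  module

variable (B : LinearMap.BilinForm F M) (hinv : ∀ g v w, B (ρ g v) (ρ g w) = B v w)

include hinv in
theorem B_dlt (u w : M) : B u (dlt ρ w) = -(B (dlt ρ u) w) := by
  have e1 : B u (ρ (P 7 lr) w) = B (ρ (P 7 lr) (ρ (P 7 lr) u)) w := by
    rw [← hinv (P 7 lr), ← hinv (P 7 lr), r_cube]
  have e2 : B u (ρ (P 7 lr) (ρ (P 7 lr) w)) = B (ρ (P 7 lr) u) w := by
    rw [← hinv (P 7 lr), r_cube]
  rw [dlt_apply, dlt_apply, map_sub, e1, e2, map_sub, LinearMap.sub_apply]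
  ring

include hinv in
/-- the projection onto `WN` is self-adjoint -/
theorem B_proj (h2 : (2 : F) ≠ 0) {s : M} (hs : s ∈ WN ρ) (h : ∀ w ∈ WN ρ, B s w = 0) (m : M) : B s m = 0 := by
  obtain ⟨hW, hy⟩ := mem_WN.1 hs
  obtain ⟨h1, h4⟩ := mem_WV.1 hW
  have i1 : ∀ w, B s (ρ (P 7 ly2) w) = B s w := fun w => by
    conv_lhs => rw [← h1]
    exact hinv _ _ _
  have i2 : ∀ w, B s (ρ (P 7 lv) w) = B s w := fun w => by
    conv_lhs => rw [← h4]
    exact hinv _ _ _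
  have i3 : ∀ w, B s (ρ (P 7 l42) w) = -(B s w) := fun w => by
    have h5 : s = -(ρ (P 7 l42) s) := by rw [hy, neg_neg]
    conv_lhs => rw [h5]
    rw [map_neg, LinearMap.neg_apply, hinv]
  have hm : O ρ eV m - ρ (P 7 l42) (O ρ eV m) ∈ WN ρ := by
    refine mem_WN.2 ⟨sub_mem (eV_mem m) (y_mem (eV_mem m)), ?_⟩
    rw [map_sub, yy, (mem_WV.1 (eV_mem m)).1, neg_sub]
  have h5 := h _ hm
  rw [map_sub, i3, eV_op, map_add, i1, map_add, i2] at h5
  have h6 : (2 : F) * (2 * (2 * B s m)) = 0 := by linear_combination h5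
  rcases mul_eq_zero.1 h6 with h7 | h7
  · exact absurd h7 h2
  · rcases mul_eq_zero.1 h7 with h8 | h8
    · exact absurd h8 h2
    · exact (mul_eq_zero.1 h8).resolve_left h2

include h3 hinv in
/-- **`3 dim M^{D₈} ≤ dim M^{V₄} + 3 dim M^{S₄}`.** -/
theorem s3_ineq [FiniteDimensional F M] (hB : ∀ v, (∀ w, B v w = 0) → v = 0) :
    3 * finrank F ↥(WD ρ) ≤ finrank F ↥(WV ρ) + 3 * finrank F ↥(WS ρ) := by
  have h2 : (2 : F) ≠ 0 := by
    intro h2
    have : (1 : F) = 0 := by linear_combination h3 - h2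
    exact one_ne_zero this
  have h := lin_ineq (WD ρ) (WN ρ) (dlt ρ) (fun u hu => dlt_D hu) (fun u hu => dlt_N hu)
    (fun u _ => dlt_cube h3 u) B (fun u hu hw => hB _ fun m => B_proj B hinv h2 (dlt_D hu) (fun w hw' => by
      have := hw w hw'
      rw [B_dlt B hinv, neg_eq_zero] at this
      exact this) m)
  have h4 : finrank F ↥(WD ρ ⊓ LinearMap.ker (dlt ρ) : Submodule F M) ≤ finrank F ↥(WS ρ) := by
    refine Submodule.finrank_mono ?_
    rintro u ⟨hu, hu'⟩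
    have h5 := LinearMap.mem_ker.1 hu'
    rw [dlt_apply, sub_eq_zero] at h5
    refine mem_WS.2 ⟨(mem_WD.1 hu).2, ?_⟩
    have h6 := congrArg (fun v => ρ (P 7 lr) (ρ (P 7 lr) v)) h5
    simp only [r_cube] at h6
    exact h6.symm
  have h5 : finrank F ↥(WD ρ) + finrank F ↥(WN ρ) ≤ finrank F ↥(WV ρ) := by
    have h6 := Submodule.finrank_sup_add_finrank_inf_eq (WD ρ) (WN ρ)
    have h7 : (WD ρ ⊓ WN ρ : Submodule F M) = ⊥ := by
      rw [eq_bot_iff]
      rintro v ⟨hv, hv'⟩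
      have e1 := (mem_WD.1 hv).2
      have e2 := (mem_WN.1 hv').2
      rw [e1] at e2
      have e3 : (2 : F) • v = 0 := by
        rw [two_smul]
        nth_rewrite 1 [e2]
        exact neg_add_cancel v
      exact (Submodule.mem_bot F).2 ((smul_eq_zero.1 e3).resolve_left h2)
    have h8 : finrank F ↥(WD ρ ⊔ WN ρ : Submodule F M) ≤ finrank F ↥(WV ρ) :=
      Submodule.finrank_mono (sup_le (fun v hv => (mem_WD.1 hv).1) fun v hv => (mem_WN.1 hv).1)
    rw [h7, finrank_bot] at h6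
    omega
  omega

end Cfsg.Agent.R2.T1.N7H
end

private theorem dce_da2e55a875fa : _root_.True := by
  try have : _root_.True := by simp only [_root_.Cfsg.Agent.R2.T1.N7H.hsum.eq_def]
  try have : _root_.True := by simp only [_root_.Cfsg.Agent.R2.T1.N7H.WN.eq_1]
  try have : _root_.True := by simp only [_root_.Cfsg.Agent.R2.T1.N7H.hsum.eq_1]
  try have : _root_.True := by simp only [_root_.Cfsg.Agent.R2.T1.N7H.hsum.eq_2]
  exact _root_.True.intro
end

-- part: R2/T1/N7/H/Cj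
section
set_option linter.all false
open scoped Cfsg.Agent.FastGrp

/-!
# S5929, `n = 7`: the classes of elements of order 4, 5, 7 of `A₇` (helper5)

* `type5`, `type4`, `type7` : the cycle types;
* `ev5`, `ev4`, `ev7` : the dimensions of the fixed points depend only on the order.
-/

set_option autoImplicit false
set_option maxRecDepth 100000

universe u v

namespace Cfsg.Agent.R2.T1.N7H

open Equiv Equiv.Perm Module
open Cfsg.Agent.R2.T1.N7 Cfsg.Agent.R2.T1.Odd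
open Cfsg.Agent.H952.F4 (ev)

theorem prime_type {σ : Perm (Fin 7)} {p : ℕ} (hp : p.Prime) (hp4 : 4 ≤ p) (h : orderOf σ = p) : σ.cycleType = {p} := by
  obtain ⟨n, hn⟩ := cycleType_prime_order (by rw [h]; exact hp)
  rw [h] at hn
  have h1 : σ.cycleType.sum ≤ 7 := by
    have := sum_cycleType_le σ
    rwa [Fintype.card_fin] at this
  rw [hn, Multiset.sum_replicate, smul_eq_mul] at h1
  have h2 : n = 0 := by
    by_contra h0
    have h3 : 2 ≤ n + 1 := by omega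
    have := Nat.mul_le_mul h3 hp4
    omega
  rw [hn, h2]
  rfl

theorem type5 {x : A7} (hx : orderOf x = 5) : (x : Perm (Fin 7)).cycleType = {5} :=
  prime_type (by norm_num) (by norm_num) (by rw [Subgroup.orderOf_coe, hx])

theorem type7 {x : A7} (hx : orderOf x = 7) : (x : Perm (Fin 7)).cycleType = {7} :=
  prime_type (by norm_num) (by norm_num) (by rw [Subgroup.orderOf_coe, hx])

theorem type4 {x : A7} (hx : orderOf x = 4) : (x : Perm (Fin 7)).cycleType = {4, 2} := by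
  have h1 : (x : Perm (Fin 7)).cycleType.sum ≤ 7 := by
    have := sum_cycleType_le (x : Perm (Fin 7))
    rwa [Fintype.card_fin] at this
  have h2 : (x : Perm (Fin 7)).cycleType.lcm = 4 := by rw [lcm_cycleType, Subgroup.orderOf_coe, hx]
  have h3 := mem_alternatingGroup.1 x.2
  rw [sign_of_cycleType] at h3
  have h4 : ∀ k ∈ (x : Perm (Fin 7)).cycleType, k = 2 ∨ k = 4 := by
    intro k hk
    have h5 : k ∣ 4 := by rw [← h2]; exact Multiset.dvd_lcm hk
    have h6 := two_le_of_mem_cycleType hk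
    have h7 := Nat.le_of_dvd (by norm_num) h5
    interval_cases k
    · exact Or.inl rfl
    · norm_num at h5
    · exact Or.inr rfl
  generalize (x : Perm (Fin 7)).cycleType = m at *
  have h5 : m.card * 2 ≤ m.sum := by
    have := Multiset.card_nsmul_le_sum (s := m) (a := 2) fun k hk => by
      rcases h4 k hk with h | h <;> omega
    rwa [smul_eq_mul] at this
  have h6 : m.card ≤ 3 := by omega
  have hcases : m.card = 0 ∨ m.card = 1 ∨ m.card = 2 ∨ m.card = 3 := by omega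
  rcases hcases with h | h | h | h
  · rw [Multiset.card_eq_zero] at h
    subst h
    simp at h2
  · obtain ⟨a, rfl⟩ := Multiset.card_eq_one.1 h
    rcases h4 a (by simp) with rfl | rfl
    · exact absurd h3 (by decide)
    · exact absurd h3 (by decide)
  · obtain ⟨a, b, rfl⟩ := Multiset.card_eq_two.1 h
    rcases h4 a (by simp) with rfl | rfl <;> rcases h4 b (by simp) with rfl | rfl
    · exact absurd h2 (by decide)
    · exact Multiset.pair_comm 2 4
    · rfl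
    · simp at h1
  · obtain ⟨a, b, c, rfl⟩ := Multiset.card_eq_three.1 h
    rcases h4 a (by simp) with rfl | rfl <;> rcases h4 b (by simp) with rfl | rfl <;>
      rcases h4 c (by simp) with rfl | rfl
    all_goals first | exact absurd h3 (by decide) | (simp at h1)

/-- conjugacy in `A₇`, if an odd permutation commutes with the representative -/
theorem cj {r g : A7} (hct : (r : Perm (Fin 7)).cycleType = (g : Perm (Fin 7)).cycleType)
    {κ : Perm (Fin 7)} (hκ : sign κ = -1) (hc : κ * r = r * κ) : ∃ c : A7, c * r * c⁻¹ = g := by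
  obtain ⟨σ, hσ⟩ := isConj_iff.1 (isConj_iff_cycleType_eq.2 hct)
  rcases Int.units_eq_one_or (sign σ) with h3 | h3
  · exact ⟨⟨σ, h3⟩, Subtype.ext hσ⟩
  · refine ⟨⟨σ * κ, ?_⟩, Subtype.ext ?_⟩
    · rw [mem_alternatingGroup, map_mul, h3, hκ]; rfl
    · change σ * κ * (r : Perm (Fin 7)) * (σ * κ)⁻¹ = g
      rw [← hσ]
      calc σ * κ * (r : Perm (Fin 7)) * (σ * κ)⁻¹ = σ * (κ * r) * κ⁻¹ * σ⁻¹ := by group
        _ = σ * (r * κ) * κ⁻¹ * σ⁻¹ := by rw [hc]
        _ = _ := by group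

/-- conjugacy in `A₇` up to inversion, if an odd permutation inverts the representative -/
theorem cj_inv {r g : A7} (hct : (r : Perm (Fin 7)).cycleType = (g : Perm (Fin 7)).cycleType)
    {κ : Perm (Fin 7)} (hκ : sign κ = -1) (hc : κ * r * κ⁻¹ = (r : Perm (Fin 7))⁻¹) :
    ∃ c : A7, c * r * c⁻¹ = g ∨ c * r⁻¹ * c⁻¹ = g := by
  obtain ⟨σ, hσ⟩ := isConj_iff.1 (isConj_iff_cycleType_eq.2 hct)
  rcases Int.units_eq_one_or (sign σ) with h3 | h3
  · exact ⟨⟨σ, h3⟩, Or.inl (Subtype.ext hσ)⟩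
  · refine ⟨⟨σ * κ, ?_⟩, Or.inr (Subtype.ext ?_)⟩
    · rw [mem_alternatingGroup, map_mul, h3, hκ]; rfl
    · change σ * κ * (r : Perm (Fin 7))⁻¹ * (σ * κ)⁻¹ = g
      have h4 : κ * (r : Perm (Fin 7))⁻¹ * κ⁻¹ = r := by
        calc κ * (r : Perm (Fin 7))⁻¹ * κ⁻¹ = (κ * (r : Perm (Fin 7)) * κ⁻¹)⁻¹ := by group
          _ = r := by rw [hc, inv_inv]
      calc σ * κ * (r : Perm (Fin 7))⁻¹ * (σ * κ)⁻¹ = σ * (κ * (r : Perm (Fin 7))⁻¹ * κ⁻¹) * σ⁻¹ := by group
        _ = g := by rw [h4, hσ]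

variable {F : Type u} [Field F] {M : Type v} [AddCommGroup M] [Module F M] (ρ : Representation F A7 M)

theorem ev_inv_aux (x : A7) (v : M) : ρ x⁻¹ v = v ↔ ρ x v = v := by
  have h1 : ∀ u, ρ x (ρ x⁻¹ u) = u := fun u => by
    rw [← Module.End.mul_apply, ← map_mul, mul_inv_cancel, map_one]; rfl
  have h2 : ∀ u, ρ x⁻¹ (ρ x u) = u := fun u => by
    rw [← Module.End.mul_apply, ← map_mul, inv_mul_cancel, map_one]; rfl
  constructor
  · intro h
    conv_lhs => rw [← h]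
    exact h1 v
  · intro h
    conv_lhs => rw [← h]
    exact h2 v

theorem ev_inv1 (x : A7) : ev (ρ x⁻¹) 1 = ev (ρ x) 1 := by
  have key : Module.End.eigenspace (ρ x⁻¹) 1 = Module.End.eigenspace (ρ x) 1 := by
    ext v
    rw [Module.End.mem_eigenspace_iff, Module.End.mem_eigenspace_iff, one_smul]
    exact ev_inv_aux ρ x v
  unfold ev
  rw [key]
theorem ev5 {x : A7} (hx : orderOf x = 5) : ev (ρ x) 1 = ev (ρ (P 7 N7.l5)) 1 := by
  have ho : orderOf (P 7 N7.l5) = 5 := orderOf_P (n := 7) (m := 7) le_rfl (by decide +kernel)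
  obtain ⟨c, hc⟩ := cj (r := P 7 N7.l5) (g := x) ((type5 ho).trans (type5 hx).symm) (κ := swap 5 6) (by decide)
    (by rw [coe_P (n := 7) (m := 7) le_rfl (by decide)]; decide +kernel)
  rw [← hc]
  exact Cfsg.Agent.H944.E6T.ev_conj ρ c (P 7 N7.l5) 1

theorem ev4 {x : A7} (hx : orderOf x = 4) : ev (ρ x) 1 = ev (ρ (P 7 l42)) 1 := by
  have ho : orderOf (P 7 l42) = 4 := orderOf_P (n := 7) (m := 7) le_rfl (by decide +kernel)
  obtain ⟨c, hc⟩ := cj (r := P 7 l42) (g := x) ((type4 ho).trans (type4 hx).symm) (κ := swap 4 5) (by decide)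
    (by rw [coe_P (n := 7) (m := 7) le_rfl (by decide)]; decide +kernel)
  rw [← hc]
  exact Cfsg.Agent.H944.E6T.ev_conj ρ c (P 7 l42) 1

theorem ev7 {x : A7} (hx : orderOf x = 7) : ev (ρ x) 1 = ev (ρ (P 7 lc)) 1 := by
  have ho : orderOf (P 7 lc) = 7 := orderOf_P (n := 7) (m := 7) le_rfl (by decide +kernel)
  obtain ⟨c, hc⟩ := cj_inv (r := P 7 lc) (g := x) ((type7 ho).trans (type7 hx).symm)
    (κ := swap 1 6 * swap 2 3 * swap 4 5) (by decide)
    (by rw [coe_P (n := 7) (m := 7) le_rfl (by decide)]; decide +kernel)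
  rcases hc with hc | hc
  · rw [← hc]
    exact Cfsg.Agent.H944.E6T.ev_conj ρ c (P 7 lc) 1
  · rw [← hc, Cfsg.Agent.H944.E6T.ev_conj ρ c (P 7 lc)⁻¹ 1, ev_inv1]

end Cfsg.Agent.R2.T1.N7H
end

-- part: R2/T1/N7/H/Main
section
set_option linter.all false
open scoped Cfsg.Agent.FastGrp

-- part: R2/T1/N7/H/DimV
section
/-!
# S5929, `n = 7`, `p = 3`: the dimensions of the fixed spaces of `V₄` and `D₈` (helper23)
-/

set_option autoImplicit false
set_option maxRecDepth 100000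

namespace Cfsg.Agent.R2.T1.N7H

open Module
open Cfsg.Agent.R2.T1.Odd
open Cfsg.Agent.R2.T1.Art
open Cfsg.Agent.R2.T1.N7 (A7 r7 r7_eq prod_ne om_t om_42)
open Cfsg.Agent.H952.F4 (ev)

universe u v

def elsV : List (List ℕ) := [[], [0], [1], [1, 0]]

def datV : List (ℕ × List (ℕ × ℕ)) :=
  [(0, []), (1, [(1, 2), (5, 6)]), (1, [(0, 1), (1, 3), (3, 5), (2, 4)]), (1, [(1, 2), (2, 4), (3, 5), (5, 6)])]

def elsD : List (List ℕ) := [[], [0], [1], [0, 0], [1, 0], [0, 1], [0, 0, 0], [1, 0, 0]]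

def datD : List (ℕ × List (ℕ × ℕ)) :=
  [(0, []), (2, []), (1, [(0, 1), (1, 3), (3, 5), (2, 4)]), (1, [(1, 2), (5, 6)]), (1, [(1, 3), (3, 2)]), (1, []),
    (2, [(1, 3), (4, 5)]), (1, [(1, 2), (2, 4), (3, 5), (5, 6)])]

theorem chkG_V : chkG 7 [ly2, lv] elsV = true := by decide +kernel

theorem chkC_V : chkC 7 [ly2, lv] elsV [] r7 datV = true := by decide +kernel

theorem cnt_V : (List.range 6).map (fun k => (datV.map Prod.fst).count k) = [1, 3, 0, 0, 0, 0] := by decide +kernel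

theorem chkG_D : chkG 7 [l42, lv] elsD = true := by decide +kernel

theorem chkC_D : chkC 7 [l42, lv] elsD [] r7 datD = true := by decide +kernel

theorem cnt_D : (List.range 6).map (fun k => (datD.map Prod.fst).count k) = [1, 5, 2, 0, 0, 0] := by decide +kernel

variable {F : Type u} [Field F] [Finite F] {M : Type v} [AddCommGroup M] [Module F M] [FiniteDimensional F M]
  (ρ : Representation F A7 M)

theorem dimV4 (h2 : (2 : F) ≠ 0) : 4 * (finrank F ↥(inv ρ (Tg 7 [ly2, lv])) : ℚ) = om ρ 1 + 3 * om ρ (P 7 lt) := by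
  have h := dimC (n := 7) le_rfl chkG_V chkC_V (N := 4) rfl (K := 6) rfl
    (by simpa using prod_ne (F := F) (a := 2) (b := 0) (c := 0) h2 (Or.inl rfl) (Or.inl rfl)) cnt_V ρ
  simp only [r7_eq, Finset.sum_range_succ, Finset.sum_range_zero, List.getD_cons_zero, List.getD_cons_succ, P_nil] at h
  push_cast at h
  linear_combination h

theorem dimD8 (h2 : (2 : F) ≠ 0) : 8 * (finrank F ↥(inv ρ (Tg 7 [l42, lv])) : ℚ) = om ρ 1 + 5 * om ρ (P 7 lt) +
    2 * om ρ (P 7 l42) := by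
  have h := dimC (n := 7) le_rfl chkG_D chkC_D (N := 8) rfl (K := 6) rfl
    (by simpa using prod_ne (F := F) (a := 3) (b := 0) (c := 0) h2 (Or.inl rfl) (Or.inl rfl)) cnt_D ρ
  simp only [r7_eq, Finset.sum_range_succ, Finset.sum_range_zero, List.getD_cons_zero, List.getD_cons_succ, P_nil] at h
  push_cast at h
  linear_combination h

theorem dimsV (h2 : (2 : F) ≠ 0) :
    2 * finrank F ↥(inv ρ (Tg 7 [ly2, lv])) + finrank F M = 3 * ev (ρ (P 7 lt)) 1 ∧
      2 * finrank F ↥(inv ρ (Tg 7 [l42, lv])) + finrank F M = ev (ρ (P 7 l42)) 1 + 2 * ev (ρ (P 7 lt)) 1 := by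
  have e1 := dimV4 ρ h2
  have e2 := dimD8 ρ h2
  rw [om_one, om_t] at e1 e2
  rw [om_42] at e2
  constructor
  · have : (2 * finrank F ↥(inv ρ (Tg 7 [ly2, lv])) + finrank F M : ℚ) = 3 * ev (ρ (P 7 lt)) 1 := by linear_combination e1 / 2
    exact_mod_cast this
  · have : (2 * finrank F ↥(inv ρ (Tg 7 [l42, lv])) + finrank F M : ℚ) = ev (ρ (P 7 l42)) 1 + 2 * ev (ρ (P 7 lt)) 1 := by
      linear_combination e2 / 4
    exact_mod_cast this

end Cfsg.Agent.R2.T1.N7H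
end

-- part: R2/T1/N7/H/Main
section
/-!
# S5929, `n = 7`, `p = 3`: fixed vectors of `A₇` (helper23)

`main` : in characteristic 3, a self-dual module `M` of `A₇` with `d₄ = d₅` and `dim M < 3 d₄ + 2 d₇` has nonzero fixed vectors.
-/

set_option autoImplicit false

namespace Cfsg.Agent.R2.T1.N7H

open Module
open Cfsg.Agent.R2.T1.Odd
open Cfsg.Agent.R2.T1.N7 (A7)
open Cfsg.Agent.H952.F4 (ev)

universe u v

variable {F : Type u} [Field F] [Finite F] {M : Type v} [AddCommGroup M] [Module F M] [FiniteDimensional F M]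
  (ρ : Representation F A7 M)

/-- **Fixed vectors of `A₇` in characteristic 3.** -/
theorem main (h3 : (3 : F) = 0) (B : LinearMap.BilinForm F M) (hB : ∀ v, (∀ w, B v w = 0) → v = 0)
    (hinv : ∀ g v w, B (ρ g v) (ρ g w) = B v w) {x y z : A7} (hx : orderOf x = 5) (hy : orderOf y = 4)
    (hz : orderOf z = 7) (h45 : ev (ρ y) 1 = ev (ρ x) 1)
    (hn : finrank F M < 3 * ev (ρ y) 1 + 2 * ev (ρ z) 1) : Representation.invariants ρ ≠ ⊥ := by
  intro h0
  have hx' := ev5 ρ hx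
  have hy' := ev4 ρ hy
  have hz' := ev7 ρ hz
  have h45' : ev (ρ (P 7 l42)) 1 = ev (ρ (P 7 N7.l5)) 1 := by rw [← hx', ← hy', h45]
  have h2 : (2 : F) ≠ 0 := by
    intro h2
    have : (1 : F) = 0 := by linear_combination h3 - h2
    exact one_ne_zero this
  have hL : ∀ v : M, ρ (P 7 l42) v = v → ρ (P 7 lc) v = v → v = 0 := by
    intro v h1 h4
    have h5 : v ∈ Representation.invariants ρ := (Representation.mem_invariants ρ v).2 fun g =>
      fixed_all h3 h45' h1 h4 g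
    rw [h0] at h5
    exact (Submodule.mem_bot F).1 h5
  have e1 := one_ineq h3 hL
  have e2 := s3_ineq h3 B hinv hB
  obtain ⟨e3, e4'⟩ := dimsV ρ h2
  unfold WS WV at e1
  unfold WS WV WD at e2
  rw [hy', hz'] at hn
  omega

end Cfsg.Agent.R2.T1.N7H
end
end
end
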